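import Groth.Agent.EGA43.K121.ProjSep
import Mathlib.LinearAlgebra.TensorProduct.Quotient
import Mathlib.RingTheory.TensorProduct.Quotient
import Mathlib.RingTheory.Flat.Basic
import Mathlib.LinearAlgebra.Basis.VectorSpace
import Mathlib.RingTheory.Ideal.Quotient.Basic

/-!
# Families of maps into flat modules that are jointly injective modulo a maximal ideal

If `v j : N → N' j` are `A`-linear, the `N' j` flat, `m` a maximal ideal and the family is jointly
injective after tensoring with `A ⧸ m`, then an element of `N` killed by all `v j` lies in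
`m ^ n N` for all `n`.
-/

set_option autoImplicit false

open TensorProduct

namespace K121.Sep

theorem mem_pow_smul_top {A : Type*} [CommRing A] (m : Ideal A) [m.IsMaximal] {N : Type*} [AddCommGroup N]
    [Module A N] {J : Type*} {N' : J → Type*} [∀ j, AddCommGroup (N' j)] [∀ j, Module A (N' j)]
    [∀ j, Module.Flat A (N' j)] (v : ∀ j, N →ₗ[A] N' j)
    (h : ∀ x : (A ⧸ m) ⊗[A] N, (∀ j, (v j).lTensor (A ⧸ m) x = 0) → x = 0) (b : N) (hb : ∀ j, v j b = 0)
    (n : ℕ) : b ∈ (m ^ n • ⊤ : Submodule A N) := by
  induction n with
  | zero => simp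
  | succ n ih =>
    let I : Ideal A := m ^ n
    have hμ : LinearMap.range ((TensorProduct.lid A N).comp (I.subtype.rTensor N)) = I • (⊤ : Submodule A N) :=
      Ideal.subtype_rTensor_range N I
    obtain ⟨w, hw⟩ : b ∈ LinearMap.range ((TensorProduct.lid A N).comp (I.subtype.rTensor N)) := by
      rw [hμ]; exact ih
    have h1 : ∀ j, (v j).lTensor I w = 0 := by
      intro j
      have hinj : Function.Injective (I.subtype.rTensor (N' j)) :=
        Module.Flat.rTensor_preserves_injective_linearMap I.subtype I.injective_subtype
      apply hinj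
      apply (TensorProduct.lid A (N' j)).injective
      rw [map_zero, map_zero]
      have h2 : ∀ x : I ⊗[A] N, (TensorProduct.lid A (N' j)) (I.subtype.rTensor (N' j) ((v j).lTensor I x)) =
          v j ((TensorProduct.lid A N) (I.subtype.rTensor N x)) := by
        intro x
        induction x using TensorProduct.induction_on with
        | zero => simp
        | add x y hx hy => simp only [map_add, hx, hy]
        | tmul x y => simp
      rw [h2]
      have h3 : (TensorProduct.lid A N) (I.subtype.rTensor N w) = b := hw
      rw [h3, hb j]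
    have : Module.Free (A ⧸ m) ((A ⧸ m) ⊗[A] I) := by
      let _ : Field (A ⧸ m) := Ideal.Quotient.field m
      exact Module.Free.of_divisionRing (A ⧸ m) ((A ⧸ m) ⊗[A] I)
    let D := AlgebraTensorModule.distribBaseChange A (A ⧸ m) I N
    have hz : D (1 ⊗ₜ w) = 0 := by
      refine ProjSep.eq_zero_of_projective_left (A := A ⧸ m) _ (fun j => (v j).baseChange (A ⧸ m)) ?_ _ _ ?_
      · intro x hx
        exact h x hx
      · intro j
        have h2 : ∀ x : I ⊗[A] N, ((v j).baseChange (A ⧸ m)).lTensor ((A ⧸ m) ⊗[A] I) (D (1 ⊗ₜ x)) =
            AlgebraTensorModule.distribBaseChange A (A ⧸ m) I (N' j) (1 ⊗ₜ ((v j).lTensor I x)) := by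
          intro x
          induction x using TensorProduct.induction_on with
          | zero => simp
          | add x y hx hy => simp only [map_add, TensorProduct.tmul_add, hx, hy]
          | tmul x y => simp [D]
        rw [h2, h1 j, TensorProduct.tmul_zero, map_zero]
    have h4 : (1 : A ⧸ m) ⊗ₜ[A] w = 0 := by
      apply D.injective
      rw [hz, map_zero]
    have h5 : w ∈ (m • ⊤ : Submodule A (I ⊗[A] N)) := by
      have := congrArg (TensorProduct.quotTensorEquivQuotSMul (I ⊗[A] N) m) h4
      rw [TensorProduct.quotTensorEquivQuotSMul_mk_one_tmul, map_zero, Submodule.Quotient.mk_eq_zero] at this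
      exact this
    have h6 := Submodule.mem_map_of_mem (f := (TensorProduct.lid A N).comp (I.subtype.rTensor N)) h5
    rw [Submodule.map_smul'', Submodule.map_top, hμ] at h6
    have h7 : (m ^ (n + 1) • ⊤ : Submodule A N) = m • I • ⊤ := by
      rw [pow_succ', ← smul_eq_mul, smul_assoc]
    rw [h7]
    have h8 : ((TensorProduct.lid A N).comp (I.subtype.rTensor N)) w = b := hw
    rw [h8] at h6
    exact h6

end K121.Sep
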