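import Groth.Agent.EGA43.K121.DomBasic

/-!
# Schematically dominant families and affine charts

* `RLJI φ`: a family of ring maps `φ k : R → C k` is jointly injective after localization.
* `dom_of_local`: a family of morphisms to `X` is schematically dominant if near every point of `X`
  it is refined by an affine family with `RLJI`.
* `rlji_of_dom`: conversely the affine family cut out over an affine open has `RLJI`.
-/

set_option autoImplicit false
universe u
open CategoryTheory AlgebraicGeometry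

namespace K121.Dom

/-- localized joint injectivity for ring homomorphisms -/
def RLJI {R : Type*} [CommRing R] {κ : Type*} {C : κ → Type*} [∀ k, CommRing (C k)] (φ : ∀ k, R →+* C k) : Prop :=
  ∀ h a : R, (∀ k, ∃ n : ℕ, φ k (h ^ n * a) = 0) → ∃ n : ℕ, h ^ n * a = 0

/-- `f` is a schematically dominant family. -/
def SDom {X : Scheme.{u}} {ι : Type*} {Z : ι → Scheme.{u}} (f : ∀ i, Z i ⟶ X) : Prop :=
  ∀ (V : (X).Opens) (t : Γ(X, V)), (∀ i, (f i).app V t = 0) → t = 0

/-- Vanishing can be checked along a family of flat morphisms which is jointly surjective on the open. -/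
theorem eq_zero_of_flat_family {X : Scheme.{u}} {β : Type*} {W : β → Scheme.{u}} (g : ∀ b, W b ⟶ X)
    {V : X.Opens} {t : Γ(X, V)}
    (h : ∀ x ∈ V, ∃ b, Flat (g b) ∧ (∃ w, g b w = x) ∧ (g b).app V t = 0) : t = 0 := by
  refine eq_zero_of_germ fun x hx => ?_
  obtain ⟨b, hf, ⟨w, rfl⟩, h1⟩ := h x hx
  have hinj : Function.Injective ((g b).stalkMap w).hom := by
    let _ := ((g b).stalkMap w).hom.toAlgebra
    have : Module.Flat (X.presheaf.stalk (g b w)) ((W b).presheaf.stalk w) := Flat.stalkMap (g b) w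
    have : IsLocalHom (algebraMap (X.presheaf.stalk (g b w)) ((W b).presheaf.stalk w)) :=
      inferInstanceAs (IsLocalHom ((g b).stalkMap w).hom)
    have := Module.FaithfullyFlat.of_flat_of_isLocalHom (A := X.presheaf.stalk (g b w)) (B := (W b).presheaf.stalk w)
    exact FaithfulSMul.algebraMap_injective (X.presheaf.stalk (g b w)) ((W b).presheaf.stalk w)
  apply hinj
  have e3 := Scheme.Hom.germ_stalkMap_apply (g b) V w hx t
  rw [map_zero]
  refine e3.trans ?_
  rw [h1]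
  exact map_zero ((W b).presheaf.germ ((g b) ⁻¹ᵁ V) w hx).hom

theorem algebraMap_eq_zero_iff {R : CommRingCat.{u}} (h a : R) :
    algebraMap R Γ(Spec R, PrimeSpectrum.basicOpen h) a = 0 ↔ ∃ n : ℕ, h ^ n * a = 0 := by
  rw [IsLocalization.map_eq_zero_iff (Submonoid.powers h)]
  constructor
  · rintro ⟨⟨_, n, rfl⟩, h1⟩
    exact ⟨n, h1⟩
  · rintro ⟨n, h1⟩
    exact ⟨⟨_, n, rfl⟩, h1⟩

theorem specMap_app_algebraMap {R C : CommRingCat.{u}} (φ : R ⟶ C) (V : (Spec R).Opens) (a : R) :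
    (Spec.map φ).app V (algebraMap R Γ(Spec R, V) a) = algebraMap C Γ(Spec C, (Spec.map φ) ⁻¹ᵁ V) (φ a) := by
  rw [IsAffineOpen.algebraMap_Spec_obj, IsAffineOpen.algebraMap_Spec_obj]
  have h1 := Scheme.ΓSpecIso_inv_naturality φ
  have h2 := ConcreteCategory.congr_hom ((Spec.map φ).naturality (homOfLE (le_top : V ≤ ⊤)).op)
    ((Scheme.ΓSpecIso R).inv a)
  have h3 := ConcreteCategory.congr_hom h1 a
  change _ = ((Spec C).presheaf.map (homOfLE le_top).op) ((Scheme.ΓSpecIso C).inv (φ a))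
  change (Spec.map φ).app V (((Spec R).presheaf.map (homOfLE le_top).op) ((Scheme.ΓSpecIso R).inv a)) = _
  refine h2.trans ?_
  have h4 : (Spec.map φ).app ⊤ ((Scheme.ΓSpecIso R).inv a) = (Scheme.ΓSpecIso C).inv (φ a) := h3.symm
  change ((Spec C).presheaf.map _) ((Spec.map φ).app ⊤ ((Scheme.ΓSpecIso R).inv a)) = _
  rw [h4]
  rfl

/-- Sections over `D(h)` of an affine scheme, up to powers of `h`. -/
theorem exists_algebraMap_eq {R : CommRingCat.{u}} (h : R) (t : Γ(Spec R, PrimeSpectrum.basicOpen h)) :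
    ∃ (a : R) (n : ℕ), algebraMap R Γ(Spec R, PrimeSpectrum.basicOpen h) (h ^ n) * t =
      algebraMap R Γ(Spec R, PrimeSpectrum.basicOpen h) a := by
  obtain ⟨⟨a, ⟨_, n, rfl⟩⟩, h1⟩ := IsLocalization.surj (Submonoid.powers h) t
  exact ⟨a, n, by rw [mul_comm]; exact h1⟩

theorem isUnit_algebraMap {R : CommRingCat.{u}} (h : R) :
    IsUnit (algebraMap R Γ(Spec R, PrimeSpectrum.basicOpen h) h) :=
  IsLocalization.Away.algebraMap_isUnit h

/-- A family of morphisms that is refined near every point by an affine family with `RLJI` is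
schematically dominant. -/
theorem dom_of_local {X : Scheme.{u}} {ι : Type*} {Z : ι → Scheme.{u}} (f : ∀ i, Z i ⟶ X)
    (H : ∀ x : X, ∃ (R : CommRingCat.{u}) (j : Spec R ⟶ X) (_ : IsOpenImmersion j) (_ : x ∈ Set.range j)
      (κ : Type u) (C : κ → CommRingCat.{u}) (φ : ∀ k, R ⟶ C k),
      RLJI (fun k => (φ k).hom) ∧ ∀ k, ∃ (i : ι) (g : Spec (C k) ⟶ Z i), g ≫ f i = Spec.map (φ k) ≫ j) :
    SDom f := by
  intro V t ht
  refine eq_zero_of_germ fun x hx => ?_
  obtain ⟨R, j, _, ⟨x₀, rfl⟩, κ, C, φ, hφ, hg⟩ := H x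
  obtain ⟨_, ⟨_, ⟨h, rfl⟩, rfl⟩, hx₀, hV⟩ := PrimeSpectrum.isBasis_basic_opens.exists_subset_of_mem_open
    (show x₀ ∈ (j ⁻¹ᵁ V : Set (Spec R)) from hx) (j ⁻¹ᵁ V).isOpen
  let D : (Spec R).Opens := PrimeSpectrum.basicOpen h
  have hV' : D ≤ j ⁻¹ᵁ V := hV
  have hs0 : (Spec R).presheaf.map (homOfLE hV').op (j.app V t) = 0 := by
    obtain ⟨a, n, han⟩ := exists_algebraMap_eq h ((Spec R).presheaf.map (homOfLE hV').op (j.app V t))
    have h1 : ∀ k, ∃ m : ℕ, (φ k).hom (h ^ m * a) = 0 := by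
      intro k
      obtain ⟨i, g, hgi⟩ := hg k
      have h2 : (Spec.map (φ k)).app (j ⁻¹ᵁ V) (j.app V t) = 0 := by
        rw [← comp_app_zero, ← app_congr_zero hgi]
        exact comp_app_zero_of _ _ _ _ (ht i)
      have h3 : (Spec.map (φ k)).app D ((Spec R).presheaf.map (homOfLE hV').op (j.app V t)) = 0 :=
        app_map_zero (Spec.map (φ k)) hV' _ h2
      have h4 : algebraMap (C k) Γ(Spec (C k), (Spec.map (φ k)) ⁻¹ᵁ D) (φ k a) = 0 := by
        rw [← specMap_app_algebraMap (φ k) D a, ← han]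
        refine (map_mul ((Spec.map (φ k)).app D).hom _ _).trans ?_
        rw [show ((Spec.map (φ k)).app D).hom ((Spec R).presheaf.map (homOfLE hV').op (j.app V t)) = 0 from h3,
          mul_zero]
      obtain ⟨m, hm⟩ := (algebraMap_eq_zero_iff (φ k h) (φ k a)).mp h4
      exact ⟨m, by rw [map_mul, map_pow]; exact hm⟩
    obtain ⟨m, hm⟩ := hφ h a h1
    have h5 : algebraMap R Γ(Spec R, PrimeSpectrum.basicOpen h) a = 0 := (algebraMap_eq_zero_iff h a).mpr ⟨m, hm⟩
    rw [h5, map_pow] at han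
    exact ((isUnit_algebraMap h).pow n).mul_right_eq_zero.mp han
  have hinj : Function.Injective (j.stalkMap x₀).hom :=
    (ConcreteCategory.bijective_of_isIso (j.stalkMap x₀)).1
  apply hinj
  rw [map_zero]
  refine (Scheme.Hom.germ_stalkMap_apply j V x₀ hx t).trans ?_
  have h6 : (Spec R).presheaf.germ (j ⁻¹ᵁ V) x₀ hx (j.app V t) =
      (Spec R).presheaf.germ D x₀ hx₀ ((Spec R).presheaf.map (homOfLE hV').op (j.app V t)) :=
    (TopCat.Presheaf.germ_res_apply (Spec R).presheaf (homOfLE hV') x₀ hx₀ _).symm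
  rw [h6, hs0]
  exact map_zero ((Spec R).presheaf.germ D x₀ hx₀).hom

theorem map_algebraMap {R : CommRingCat.{u}} {V W : (Spec R).Opens} (h : W ≤ V) (a : R) :
    (Spec R).presheaf.map (homOfLE h).op (algebraMap R Γ(Spec R, V) a) = algebraMap R Γ(Spec R, W) a := by
  rw [IsAffineOpen.algebraMap_Spec_obj, IsAffineOpen.algebraMap_Spec_obj]
  change (Spec R).presheaf.map (homOfLE h).op (((Spec R).presheaf.map (homOfLE le_top).op)
    ((Scheme.ΓSpecIso R).inv a)) = ((Spec R).presheaf.map (homOfLE le_top).op) ((Scheme.ΓSpecIso R).inv a)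
  rw [← ConcreteCategory.comp_apply, ← Functor.map_comp]
  rfl

theorem algebraMap_eq_zero_of_le {R : CommRingCat.{u}} {h a : R} {W : (Spec R).Opens}
    (hW : W ≤ PrimeSpectrum.basicOpen h) (ha : ∃ n : ℕ, h ^ n * a = 0) :
    algebraMap R Γ(Spec R, W) a = 0 := by
  have h1 := (algebraMap_eq_zero_iff h a).mpr ha
  have h2 := map_algebraMap (V := PrimeSpectrum.basicOpen h) hW a
  rw [← h2, h1]
  exact map_zero ((Spec R).presheaf.map (homOfLE hW).op).hom

/-- The affine family cut out by a schematically dominant family over an affine open. -/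
theorem rlji_of_dom {X : Scheme.{u}} {ι : Type*} {Z : ι → Scheme.{u}} (f : ∀ i, Z i ⟶ X) (hf : SDom f)
    {R : CommRingCat.{u}} (j : Spec R ⟶ X) [IsOpenImmersion j] {κ : Type*} {C : κ → CommRingCat.{u}}
    (φ : ∀ k, R ⟶ C k)
    (hcov : ∀ i (z : Z i), f i z ∈ Set.range j →
      ∃ (k : κ) (g : Spec (C k) ⟶ Z i), Flat g ∧ z ∈ Set.range g ∧ g ≫ f i = Spec.map (φ k) ≫ j) :
    RLJI (fun k => (φ k).hom) := by
  intro h a ha
  let D : (Spec R).Opens := PrimeSpectrum.basicOpen h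
  let V := j ''ᵁ D
  have hV : V ≤ j.opensRange := j.image_le_opensRange D
  have hiso : IsIso (j.app V) := j.isIso_app V hV
  obtain ⟨t, ht⟩ := (ConcreteCategory.bijective_of_isIso (j.app V)).2 (algebraMap R Γ(Spec R, j ⁻¹ᵁ V) a)
  have hjV : j ⁻¹ᵁ V = D := j.preimage_image_eq D
  have ht0 : t = 0 := by
    refine hf V t fun i => ?_
    refine eq_zero_of_flat_family (fun k : (Σ k : κ, Spec (C k) ⟶ Z i) => k.2) fun z hz => ?_
    have hz' : f i z ∈ Set.range j := hV hz
    obtain ⟨k, g, hg, hzg, hgi⟩ := hcov i z hz'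
    refine ⟨⟨k, g⟩, hg, hzg, ?_⟩
    change g.app ((f i) ⁻¹ᵁ V) ((f i).app V t) = 0
    rw [← comp_app_zero, app_congr_zero hgi, comp_app_zero]
    change (Spec.map (φ k)).app (j ⁻¹ᵁ V) (j.app V t) = 0
    rw [ht, specMap_app_algebraMap]
    obtain ⟨n, hn⟩ := ha k
    refine algebraMap_eq_zero_of_le (h := φ k h) ?_ ⟨n, ?_⟩
    · rw [hjV]
      exact le_of_eq rfl
    · rw [← map_pow, ← map_mul]
      exact hn
  rw [ht0] at ht
  have h1 : algebraMap R Γ(Spec R, j ⁻¹ᵁ V) a = 0 := ht.symm.trans (map_zero (j.app V).hom)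
  refine (algebraMap_eq_zero_iff h a).mp ?_
  have h2 := map_algebraMap (V := j ⁻¹ᵁ V) (W := D) hjV.ge a
  rw [h1] at h2
  exact h2.symm.trans (map_zero ((Spec R).presheaf.map (homOfLE hjV.ge).op).hom)

end K121.Dom
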