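import Groth.Agent.EGA43.K121.SepFP
import Groth.Agent.EGA43.K121.DomLocal
import Mathlib.RingTheory.Localization.Away.AdjoinRoot
import Mathlib.RingTheory.Flat.Localization
import Mathlib.RingTheory.Flat.Stability

/-!
# Base change of locally jointly injective families of ring homomorphisms

* `rlji_flat_fp`: along flat finitely presented algebras;
* `rlji_field`: along arbitrary algebras over a field.
-/

set_option autoImplicit false
universe u

open TensorProduct

namespace K121.Sep

open K121.Dom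

theorem lji_of_rlji {A : Type*} [CommRing A] {J : Type*} {C : J → Type*} [∀ j, CommRing (C j)]
    [∀ j, Algebra A (C j)] (h : RLJI fun j => algebraMap A (C j)) :
    LJI (fun j => Algebra.linearMap A (C j)) := by
  intro f n hn
  refine h f n fun j => ?_
  obtain ⟨k, hk⟩ := hn j
  refine ⟨k, ?_⟩
  rw [map_mul, ← Algebra.smul_def]
  exact hk

theorem rlji_flat_fp {A B : Type u} [CommRing A] [CommRing B] [Algebra A B] [Algebra.FinitePresentation A B]
    [Module.Flat A B] {J : Type*} {C : J → Type*} [∀ j, CommRing (C j)] [∀ j, Algebra A (C j)]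
    (h : RLJI fun j => algebraMap A (C j)) :
    RLJI (fun j => (Algebra.TensorProduct.includeLeftRingHom : B →+* B ⊗[A] C j)) := by
  intro f b hb
  let Bf := Localization.Away f
  have : Algebra.FinitePresentation A Bf := inferInstance
  have : Module.Flat A Bf := Module.Flat.trans A B Bf
  have key : (algebraMap B Bf b) ⊗ₜ[A] (1 : A) = 0 := by
    refine eq_zero_of_flat_fp (B := Bf) _ (lji_of_rlji h) _ fun j => ?_
    rw [LinearMap.lTensor_tmul, Algebra.linearMap_apply, map_one]
    obtain ⟨n, hn⟩ := hb j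
    let ψ : B ⊗[A] C j →ₐ[A] Bf ⊗[A] C j :=
      Algebra.TensorProduct.map (IsScalarTower.toAlgHom A B Bf) (AlgHom.id A (C j))
    have h1 := congrArg ψ hn
    rw [map_zero, Algebra.TensorProduct.includeLeftRingHom_apply, Algebra.TensorProduct.map_tmul, map_one,
      IsScalarTower.coe_toAlgHom', map_mul, map_pow] at h1
    have h2 : ((algebraMap B Bf f) ^ n) ⊗ₜ[A] (1 : C j) * (algebraMap B Bf b) ⊗ₜ[A] (1 : C j) = 0 := by
      rw [Algebra.TensorProduct.tmul_mul_tmul, one_mul]
      exact h1
    have hu : IsUnit (((algebraMap B Bf f) ^ n) ⊗ₜ[A] (1 : C j)) := by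
      have : IsUnit ((algebraMap B Bf f) ^ n) := (IsLocalization.Away.algebraMap_isUnit f).pow n
      exact this.map (Algebra.TensorProduct.includeLeftRingHom : Bf →+* Bf ⊗[A] C j)
    exact hu.mul_right_eq_zero.mp h2
  have h3 : algebraMap B Bf b = 0 := by
    have := congrArg (TensorProduct.rid A Bf) key
    simpa using this
  obtain ⟨⟨_, n, rfl⟩, h4⟩ := (IsLocalization.map_eq_zero_iff (Submonoid.powers f) Bf b).mp h3
  exact ⟨n, h4⟩

theorem exists_fg_mem_range {k A B : Type*} [CommRing k] [CommRing A] [CommRing B] [Algebra k A] [Algebra k B]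
    (x y : A ⊗[k] B) : ∃ B₀ : Subalgebra k B, B₀.FG ∧
      x ∈ Set.range (Algebra.TensorProduct.map (AlgHom.id k A) B₀.val) ∧
      y ∈ Set.range (Algebra.TensorProduct.map (AlgHom.id k A) B₀.val) := by
  have key : ∀ (B₁ B₀ : Subalgebra k B) (_ : B₁ ≤ B₀) (x : A ⊗[k] B), x ∈ B₁.baseChange A →
      x ∈ Set.range (Algebra.TensorProduct.map (AlgHom.id k A) B₀.val) := by
    rintro B₁ B₀ hle x ⟨z, rfl⟩
    refine ⟨Algebra.TensorProduct.map (AlgHom.id k A) (Subalgebra.inclusion hle) z, ?_⟩
    induction z using TensorProduct.induction_on with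
    | zero => simp
    | add a b ha hb => simp only [map_add, ha, hb]
    | tmul a b => rfl
  obtain ⟨B₁, h₁, hx⟩ := exists_fg_and_mem_baseChange x
  obtain ⟨B₂, h₂, hy⟩ := exists_fg_and_mem_baseChange y
  exact ⟨B₁ ⊔ B₂, h₁.sup h₂, key _ _ le_sup_left x hx, key _ _ le_sup_right y hy⟩

theorem rlji_field {k A B : Type u} [Field k] [CommRing A] [CommRing B] [Algebra k A] [Algebra k B] {J : Type*}
    {C : J → Type*} [∀ j, CommRing (C j)] [∀ j, Algebra k (C j)] (φ : ∀ j, A →ₐ[k] C j)
    (h : RLJI fun j => (φ j : A →+* C j)) :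
    RLJI fun j => (Algebra.TensorProduct.map (φ j) (AlgHom.id k B) : A ⊗[k] B →+* C j ⊗[k] B) := by
  intro f s hs
  obtain ⟨B₀, hB₀, ⟨f₀, rfl⟩, ⟨s₀, rfl⟩⟩ := exists_fg_mem_range f s
  have : Algebra.FiniteType k B₀ := B₀.fg_iff_finiteType.mp hB₀
  have : Algebra.FinitePresentation k B₀ := Algebra.FinitePresentation.of_finiteType.mp inferInstance
  let _ : ∀ j, Algebra A (C j) := fun j => (φ j).toRingHom.toAlgebra
  have : ∀ j, IsScalarTower k A (C j) := fun j => IsScalarTower.of_algebraMap_eq fun x => ((φ j).commutes x).symm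
  have h1 : RLJI (fun j => algebraMap A (C j)) := h
  have h2 := rlji_flat_fp (B := A ⊗[k] B₀) h1
  let ι : A ⊗[k] B₀ →ₐ[k] A ⊗[k] B := Algebra.TensorProduct.map (AlgHom.id k A) B₀.val
  obtain ⟨n, hn⟩ := h2 f₀ s₀ (by
    intro j
    obtain ⟨n, hn⟩ := hs j
    refine ⟨n, ?_⟩
    let E : (A ⊗[k] B₀) ⊗[A] C j ≃ₐ[A] C j ⊗[k] B₀ :=
      (Algebra.TensorProduct.comm A (A ⊗[k] B₀) (C j)).trans
        ((Algebra.TensorProduct.cancelBaseChange k A (C j) (C j) B₀).restrictScalars A)
    let ι' : C j ⊗[k] B₀ →ₐ[k] C j ⊗[k] B := Algebra.TensorProduct.map (AlgHom.id k (C j)) B₀.val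
    have hι' : Function.Injective ι' := by
      have : Function.Injective (B₀.val.toLinearMap.lTensor (C j)) :=
        Module.Flat.lTensor_preserves_injective_linearMap _ Subtype.val_injective
      exact this
    have hc : ∀ x : A ⊗[k] B₀, ι' (E (x ⊗ₜ 1)) = Algebra.TensorProduct.map (φ j) (AlgHom.id k B) (ι x) := by
      intro x
      induction x using TensorProduct.induction_on with
      | zero => simp
      | add a b ha hb => simp only [map_add, TensorProduct.add_tmul, ha, hb]
      | tmul a b =>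
        have : (a • (1 : C j)) = φ j a := by
          rw [Algebra.smul_def, mul_one]; rfl
        simp [E, ι', ι, this]
    apply E.injective
    apply hι'
    rw [map_zero, map_zero]
    refine (hc _).trans ?_
    rw [map_mul, map_pow]
    exact hn)
  exact ⟨n, by rw [← map_pow, ← map_mul, hn, map_zero]⟩

end K121.Sep
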