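import Groth.Agent.EGA43.K121.FibSep
import Groth.Agent.EGA43.K121.SepRing

/-!
# Universally separating families of algebras from fibrewise conditions, Noetherian source
-/

set_option autoImplicit false
universe u

open TensorProduct

namespace K121.Sep

open K121.Dom

theorem rlji_congr {R R' : Type*} [CommRing R] [CommRing R'] {J : Type*} {C C' : J → Type*} [∀ j, CommRing (C j)]
    [∀ j, CommRing (C' j)] (φ : ∀ j, R →+* C j) (φ' : ∀ j, R' →+* C' j) (e : R' ≃+* R) (ε : ∀ j, C' j →+* C j)
    (hc : ∀ j x, ε j (φ' j x) = φ j (e x)) (h : RLJI φ) : RLJI φ' := by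
  intro f s hs
  obtain ⟨n, hn⟩ := h (e f) (e s) fun j => by
    obtain ⟨n, hn⟩ := hs j
    refine ⟨n, ?_⟩
    rw [← map_pow, ← map_mul, ← hc, hn, map_zero]
  refine ⟨n, e.injective ?_⟩
  rw [map_mul, map_pow, hn, map_zero]

/-- `RLJI` from fibres, without base change. -/
theorem rlji_of_fibre {A B : Type u} [CommRing A] [CommRing B] [Algebra A B] [IsNoetherianRing B] {J : Type*}
    {C : J → Type u} [∀ j, CommRing (C j)] [∀ j, Algebra A (C j)] [∀ j, Module.Flat A (C j)]
    (φ : ∀ j, B →ₐ[A] C j)
    (h : ∀ (p : Ideal A) [p.IsPrime],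
      RLJI fun j => (Algebra.TensorProduct.map (φ j) (AlgHom.id A p.ResidueField) :
        B ⊗[A] p.ResidueField →+* C j ⊗[A] p.ResidueField)) :
    RLJI fun j => (φ j : B →+* C j) := by
  intro f b hb
  let Bf := Localization.Away f
  have : IsNoetherianRing Bf := IsLocalization.isNoetherianRing (Submonoid.powers f) Bf inferInstance
  let Cf : J → Type u := fun j => Localization.Away (φ j f)
  have hflat : ∀ j, Module.Flat A (Cf j) := fun j => Module.Flat.trans A (C j) (Cf j)
  let w : ∀ j, Bf →ₐ[A] Cf j := fun j => IsLocalization.Away.mapₐ Bf (Cf j) (φ j) f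
  have hw : ∀ j x, w j (algebraMap B Bf x) = algebraMap (C j) (Cf j) (φ j x) := fun j x => by
    simp [w, IsLocalization.Away.mapₐ, IsLocalization.Away.map]
  have key : algebraMap B Bf b = 0 := by
    refine eq_zero_of_fibre (A := A) (fun j => (w j).toLinearMap) ?_ _ ?_
    · intro p hp x hx
      let κ := p.ResidueField
      let LB : B ⊗[A] κ →ₗ[B] Bf ⊗[A] κ := AlgebraTensorModule.rTensor A κ (Algebra.linearMap B Bf)
      have hLB : IsLocalizedModule (Submonoid.powers f) LB := inferInstance
      let LC : ∀ j, C j ⊗[A] κ →ₗ[C j] Cf j ⊗[A] κ := fun j =>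
        AlgebraTensorModule.rTensor A κ (Algebra.linearMap (C j) (Cf j))
      have hLC : ∀ j, IsLocalizedModule (Submonoid.powers (φ j f)) (LC j) := fun j => inferInstance
      let x' : Bf ⊗[A] κ := TensorProduct.comm A κ Bf x
      have hx' : ∀ j, (w j).toLinearMap.rTensor κ x' = 0 := by
        intro j
        have h1 : ∀ z : κ ⊗[A] Bf, (w j).toLinearMap.rTensor κ (TensorProduct.comm A κ Bf z) =
            TensorProduct.comm A κ (Cf j) ((w j).toLinearMap.lTensor κ z) := by
          intro z
          induction z using TensorProduct.induction_on with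
          | zero => simp
          | add y z hy hz => simp only [map_add, hy, hz]
          | tmul y z => simp
        rw [h1, hx j, map_zero]
      obtain ⟨⟨y, ⟨_, n, rfl⟩⟩, hy⟩ := IsLocalizedModule.surj (Submonoid.powers f) LB x'
      have hy' : (f ^ n) • x' = LB y := hy
      have h2 : ∀ j, ∃ m : ℕ, (Algebra.TensorProduct.map (φ j) (AlgHom.id A κ) : B ⊗[A] κ →+* C j ⊗[A] κ)
          ((f ⊗ₜ 1) ^ m * y) = 0 := by
        intro j
        have h3 : ∀ z : B ⊗[A] κ, (w j).toLinearMap.rTensor κ (LB z) =
            LC j (Algebra.TensorProduct.map (φ j) (AlgHom.id A κ) z) := by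
          intro z
          induction z using TensorProduct.induction_on with
          | zero => simp
          | add y z hy hz => simp only [map_add, hy, hz]
          | tmul y z => simp [LB, LC, hw]
        have h4 : ∀ (b : B) (z : Bf ⊗[A] κ), (w j).toLinearMap.rTensor κ (b • z) =
            φ j b • (w j).toLinearMap.rTensor κ z := by
          intro b z
          induction z using TensorProduct.induction_on with
          | zero => simp
          | add y z hy hz => simp only [smul_add, map_add, hy, hz]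
          | tmul y z =>
            simp only [TensorProduct.smul_tmul', LinearMap.rTensor_tmul, AlgHom.toLinearMap_apply]
            congr 1
            rw [Algebra.smul_def, map_mul, hw, Algebra.smul_def]
        have h5 : LC j (Algebra.TensorProduct.map (φ j) (AlgHom.id A κ) y) = 0 := by
          rw [← h3, ← hy', h4, hx' j, smul_zero]
        obtain ⟨⟨_, m, rfl⟩, hm⟩ := (IsLocalizedModule.eq_zero_iff (Submonoid.powers (φ j f)) (LC j)).mp h5
        refine ⟨m, ?_⟩
        have hm' : (φ j f) ^ m • (Algebra.TensorProduct.map (φ j) (AlgHom.id A κ) y) = 0 := hm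
        rw [← hm']
        have h6 : ∀ (c : C j) (z : C j ⊗[A] κ), (c ⊗ₜ (1 : κ)) * z = c • z := by
          intro c z
          rw [Algebra.smul_def]
          rfl
        change (Algebra.TensorProduct.map (φ j) (AlgHom.id A κ)) ((f ⊗ₜ 1) ^ m * y) = _
        rw [map_mul, map_pow, Algebra.TensorProduct.map_tmul, map_one, Algebra.TensorProduct.tmul_pow, one_pow, h6]
      obtain ⟨m, hm⟩ := h p (f ⊗ₜ 1) y h2
      have h7 : f ^ m • y = 0 := by
        rw [← hm, Algebra.TensorProduct.tmul_pow, one_pow, Algebra.smul_def]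
        rfl
      have h8 : LB y = 0 := (IsLocalizedModule.eq_zero_iff (Submonoid.powers f) LB).mpr ⟨⟨_, m, rfl⟩, h7⟩
      have h9 : x' = 0 := by
        have h10 : (⟨f ^ n, n, rfl⟩ : Submonoid.powers f) • x' = (⟨f ^ n, n, rfl⟩ : Submonoid.powers f) • 0 := by
          rw [smul_zero]
          exact hy'.trans h8
        exact IsLocalizedModule.smul_injective LB _ h10
      exact (TensorProduct.comm A κ Bf).injective (by rw [map_zero]; exact h9)
    · intro j
      obtain ⟨n, hn⟩ := hb j
      change w j _ = 0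
      rw [hw, IsLocalization.map_eq_zero_iff (Submonoid.powers (φ j f))]
      refine ⟨⟨_, n, rfl⟩, ?_⟩
      rw [← hn]
      simp
  obtain ⟨⟨_, n, rfl⟩, h4⟩ := (IsLocalization.map_eq_zero_iff (Submonoid.powers f) Bf b).mp key
  exact ⟨n, h4⟩

/-- `(S ⊗[A] B) ⊗[S] T = B ⊗[A] T`. -/
noncomputable def bcEquiv (A S T B : Type*) [CommRing A] [CommRing S] [CommRing T] [CommRing B] [Algebra A S]
    [Algebra A T] [Algebra S T] [IsScalarTower A S T] [Algebra A B] : (S ⊗[A] B) ⊗[S] T ≃+* B ⊗[A] T :=
  ((Algebra.TensorProduct.comm S (S ⊗[A] B) T).toRingEquiv.trans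
    (Algebra.TensorProduct.cancelBaseChange A S T T B).toRingEquiv).trans
    (Algebra.TensorProduct.comm A T B).toRingEquiv

theorem bcEquiv_tmul (A S T B : Type*) [CommRing A] [CommRing S] [CommRing T] [CommRing B] [Algebra A S]
    [Algebra A T] [Algebra S T] [IsScalarTower A S T] [Algebra A B] (s : S) (b : B) (t : T) :
    bcEquiv A S T B ((s ⊗ₜ b) ⊗ₜ t) = b ⊗ₜ (s • t) := by
  simp [bcEquiv]

theorem bcEquiv_map (A S T : Type*) {B C : Type*} [CommRing A] [CommRing S] [CommRing T] [CommRing B] [Algebra A S]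
    [Algebra A T] [Algebra S T] [IsScalarTower A S T] [Algebra A B] [CommRing C] [Algebra A C] (φ : B →ₐ[A] C)
    (x : (S ⊗[A] B) ⊗[S] T) :
    bcEquiv A S T C (Algebra.TensorProduct.map (Algebra.TensorProduct.map (AlgHom.id S S) φ) (AlgHom.id S T) x) =
      Algebra.TensorProduct.map φ (AlgHom.id A T) (bcEquiv A S T B x) := by
  induction x using TensorProduct.induction_on with
  | zero => simp
  | add x y hx hy => simp only [map_add, hx, hy]
  | tmul x t =>
    induction x using TensorProduct.induction_on with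
    | zero => simp
    | add x y hx hy => simp only [map_add, TensorProduct.add_tmul, hx, hy]
    | tmul s b =>
      rw [bcEquiv_tmul, Algebra.TensorProduct.map_tmul, Algebra.TensorProduct.map_tmul, bcEquiv_tmul,
        Algebra.TensorProduct.map_tmul]
      rfl

section Tower

variable {A B : Type*} [CommRing A] [CommRing B] [Algebra A B] {J : Type*}
    {C : J → Type*} [∀ j, CommRing (C j)] [∀ j, Algebra A (C j)] (φ : ∀ j, B →ₐ[A] C j)
    (S T : Type*) [CommRing S] [Algebra A S] [CommRing T] [Algebra A T] [Algebra S T] [IsScalarTower A S T]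

theorem rlji_bc (h : RLJI fun j => (Algebra.TensorProduct.map (φ j) (AlgHom.id A T) : B ⊗[A] T →+* C j ⊗[A] T)) :
    RLJI fun j => (Algebra.TensorProduct.map (Algebra.TensorProduct.map (AlgHom.id S S) (φ j)) (AlgHom.id S T) :
      (S ⊗[A] B) ⊗[S] T →+* (S ⊗[A] C j) ⊗[S] T) :=
  rlji_congr _ _ (bcEquiv A S T B) (fun j => (bcEquiv A S T (C j) : _ →+* _)) (fun j x => bcEquiv_map A S T (φ j) x) h

theorem rlji_of_bc (h : RLJI fun j => (Algebra.TensorProduct.map (Algebra.TensorProduct.map (AlgHom.id S S) (φ j))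
      (AlgHom.id S T) : (S ⊗[A] B) ⊗[S] T →+* (S ⊗[A] C j) ⊗[S] T)) :
    RLJI fun j => (Algebra.TensorProduct.map (φ j) (AlgHom.id A T) : B ⊗[A] T →+* C j ⊗[A] T) := by
  refine rlji_congr _ _ (bcEquiv A S T B).symm (fun j => ((bcEquiv A S T (C j)).symm : _ →+* _)) (fun j x => ?_) h
  obtain ⟨x, rfl⟩ := (bcEquiv A S T B).surjective x
  change (bcEquiv A S T (C j)).symm (Algebra.TensorProduct.map (φ j) (AlgHom.id A T) (bcEquiv A S T B x)) = _
  rw [← bcEquiv_map, RingEquiv.symm_apply_apply, RingEquiv.symm_apply_apply]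
  rfl

theorem rlji_comm (h : RLJI fun j => (Algebra.TensorProduct.map (φ j) (AlgHom.id A S) : B ⊗[A] S →+* C j ⊗[A] S)) :
    RLJI fun j => (Algebra.TensorProduct.map (AlgHom.id S S) (φ j) : S ⊗[A] B →+* S ⊗[A] C j) := by
  refine rlji_congr _ _ (Algebra.TensorProduct.comm A S B).toRingEquiv
    (fun j => ((Algebra.TensorProduct.comm A S (C j)).toRingEquiv : _ →+* _)) (fun j x => ?_) h
  induction x using TensorProduct.induction_on with
  | zero => simp
  | add x y hx hy => simp only [map_add, hx, hy]
  | tmul x y => simp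

theorem rlji_comm' (h : RLJI fun j => (Algebra.TensorProduct.map (AlgHom.id S S) (φ j) : S ⊗[A] B →+* S ⊗[A] C j)) :
    RLJI fun j => (Algebra.TensorProduct.map (φ j) (AlgHom.id A S) : B ⊗[A] S →+* C j ⊗[A] S) := by
  refine rlji_congr _ _ (Algebra.TensorProduct.comm A B S).toRingEquiv
    (fun j => ((Algebra.TensorProduct.comm A (C j) S).toRingEquiv : _ →+* _)) (fun j x => ?_) h
  induction x using TensorProduct.induction_on with
  | zero => simp
  | add x y hx hy => simp only [map_add, hx, hy]
  | tmul x y => simp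

end Tower

/-- `RLJI` over a residue field implies `RLJI` over any field above it. -/
theorem rlji_field_up {A B : Type u} [CommRing A] [CommRing B] [Algebra A B] {J : Type*}
    {C : J → Type u} [∀ j, CommRing (C j)] [∀ j, Algebra A (C j)] (φ : ∀ j, B →ₐ[A] C j)
    (κ K : Type u) [Field κ] [Algebra A κ] [Field K] [Algebra A K] [Algebra κ K] [IsScalarTower A κ K]
    (h : RLJI fun j => (Algebra.TensorProduct.map (φ j) (AlgHom.id A κ) : B ⊗[A] κ →+* C j ⊗[A] κ)) :
    RLJI fun j => (Algebra.TensorProduct.map (φ j) (AlgHom.id A K) : B ⊗[A] K →+* C j ⊗[A] K) :=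
  rlji_of_bc φ κ K (rlji_field (k := κ) (A := κ ⊗[A] B) (B := K)
    (fun j => Algebra.TensorProduct.map (AlgHom.id κ κ) (φ j)) (rlji_comm φ κ h))

/-- `RLJI` over a field extension descends. -/
theorem rlji_field_down {A B : Type*} [CommRing A] [CommRing B] [Algebra A B] {J : Type*}
    {C : J → Type*} [∀ j, CommRing (C j)] [∀ j, Algebra A (C j)] (φ : ∀ j, B →ₐ[A] C j)
    (κ K : Type*) [Field κ] [Algebra A κ] [Field K] [Algebra A K] [Algebra κ K] [IsScalarTower A κ K]
    (h : RLJI fun j => (Algebra.TensorProduct.map (φ j) (AlgHom.id A K) : B ⊗[A] K →+* C j ⊗[A] K)) :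
    RLJI fun j => (Algebra.TensorProduct.map (φ j) (AlgHom.id A κ) : B ⊗[A] κ →+* C j ⊗[A] κ) := by
  intro f s hs
  let ι : κ →ₐ[A] K := IsScalarTower.toAlgHom A κ K
  let I : B ⊗[A] κ →ₐ[A] B ⊗[A] K := Algebra.TensorProduct.map (AlgHom.id A B) ι
  have hI : Function.Injective I := by
    obtain ⟨r, hr⟩ := LinearMap.exists_leftInverse_of_injective (Algebra.linearMap κ K)
      (LinearMap.ker_eq_bot.mpr (algebraMap κ K).injective)
    have h1 : ∀ x, (r.restrictScalars A).lTensor B (I x) = x := by
      intro x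
      induction x using TensorProduct.induction_on with
      | zero => simp
      | add x y hx hy => simp only [map_add, hx, hy]
      | tmul x y =>
        have h2 : r (algebraMap κ K y) = y := DFunLike.congr_fun hr y
        simp [I, ι, h2]
    exact Function.LeftInverse.injective h1
  obtain ⟨n, hn⟩ := h (I f) (I s) fun j => by
    obtain ⟨n, hn⟩ := hs j
    refine ⟨n, ?_⟩
    have h1 : ∀ x : B ⊗[A] κ, Algebra.TensorProduct.map (φ j) (AlgHom.id A K) (I x) =
        Algebra.TensorProduct.map (AlgHom.id A (C j)) ι (Algebra.TensorProduct.map (φ j) (AlgHom.id A κ) x) := by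
      intro x
      induction x using TensorProduct.induction_on with
      | zero => simp
      | add x y hx hy => simp only [map_add, hx, hy]
      | tmul x y => simp [I]
    rw [← map_pow, ← map_mul]
    refine (h1 _).trans ?_
    have hn' : Algebra.TensorProduct.map (φ j) (AlgHom.id A κ) (f ^ n * s) = 0 := hn
    rw [hn', map_zero]
  exact ⟨n, hI (by rw [map_mul, map_pow, hn, map_zero])⟩

/-- If the family is locally jointly injective over all residue fields of `A`, it is so over any field over `A`. -/
theorem rlji_any_field {A B : Type u} [CommRing A] [CommRing B] [Algebra A B] {J : Type*}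
    {C : J → Type u} [∀ j, CommRing (C j)] [∀ j, Algebra A (C j)] (φ : ∀ j, B →ₐ[A] C j)
    (h : ∀ (p : Ideal A) [p.IsPrime],
      RLJI fun j => (Algebra.TensorProduct.map (φ j) (AlgHom.id A p.ResidueField) :
        B ⊗[A] p.ResidueField →+* C j ⊗[A] p.ResidueField))
    (K : Type u) [Field K] [Algebra A K] :
    RLJI fun j => (Algebra.TensorProduct.map (φ j) (AlgHom.id A K) : B ⊗[A] K →+* C j ⊗[A] K) := by
  let p : Ideal A := RingHom.ker (algebraMap A K)
  have hp : p.IsPrime := RingHom.ker_isPrime _
  let _ : Algebra p.ResidueField K := (Ideal.ResidueField.lift p (algebraMap A K) le_rfl (by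
    intro a ha
    exact IsUnit.mk0 _ ha)).toAlgebra
  have : IsScalarTower A p.ResidueField K := IsScalarTower.of_algebraMap_eq fun a =>
    (Ideal.ResidueField.lift_algebraMap p (algebraMap A K) le_rfl _ a).symm
  exact rlji_field_up φ p.ResidueField K (h p)

/-- **Universally separating families, Noetherian source.** -/
theorem rlji_univ {A B : Type u} [CommRing A] [CommRing B] [Algebra A B] [IsNoetherianRing B] {J : Type*}
    {C : J → Type u} [∀ j, CommRing (C j)] [∀ j, Algebra A (C j)] [∀ j, Module.Flat A (C j)]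
    (φ : ∀ j, B →ₐ[A] C j)
    (h : ∀ (p : Ideal A) [p.IsPrime],
      RLJI fun j => (Algebra.TensorProduct.map (φ j) (AlgHom.id A p.ResidueField) :
        B ⊗[A] p.ResidueField →+* C j ⊗[A] p.ResidueField))
    (A' : Type u) [CommRing A'] [Algebra A A'] :
    RLJI fun j => (Algebra.TensorProduct.map (φ j) (AlgHom.id A A') : B ⊗[A] A' →+* C j ⊗[A] A') := by
  intro f s hs
  obtain ⟨S, hS, ⟨f₀, rfl⟩, ⟨s₀, rfl⟩⟩ := exists_fg_mem_range f s
  have : Algebra.FiniteType A S := S.fg_iff_finiteType.mp hS
  have hN : IsNoetherianRing (B ⊗[A] S) := Algebra.FiniteType.isNoetherianRing B (B ⊗[A] S)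
  have hN' : IsNoetherianRing (S ⊗[A] B) :=
    isNoetherianRing_of_ringEquiv _ (Algebra.TensorProduct.comm A B S).toRingEquiv
  have h1 : RLJI fun j => (Algebra.TensorProduct.map (AlgHom.id S S) (φ j) : S ⊗[A] B →+* S ⊗[A] C j) := by
    refine rlji_of_fibre (A := S) (fun j => Algebra.TensorProduct.map (AlgHom.id S S) (φ j)) fun p' hp' => ?_
    exact rlji_bc φ S p'.ResidueField (rlji_any_field φ h p'.ResidueField)
  have h2 := rlji_comm' φ S h1
  let ι : B ⊗[A] S →ₐ[A] B ⊗[A] A' := Algebra.TensorProduct.map (AlgHom.id A B) S.val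
  obtain ⟨n, hn⟩ := h2 f₀ s₀ fun j => by
    obtain ⟨n, hn⟩ := hs j
    refine ⟨n, ?_⟩
    let ι' : C j ⊗[A] S →ₐ[A] C j ⊗[A] A' := Algebra.TensorProduct.map (AlgHom.id A (C j)) S.val
    have hι' : Function.Injective ι' := by
      have : Function.Injective (S.val.toLinearMap.lTensor (C j)) :=
        Module.Flat.lTensor_preserves_injective_linearMap _ Subtype.val_injective
      exact this
    have hc : ∀ x : B ⊗[A] S, ι' (Algebra.TensorProduct.map (φ j) (AlgHom.id A S) x) =
        Algebra.TensorProduct.map (φ j) (AlgHom.id A A') (ι x) := by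
      intro x
      induction x using TensorProduct.induction_on with
      | zero => simp
      | add a b ha hb => simp only [map_add, ha, hb]
      | tmul a b => simp [ι', ι]
    apply hι'
    rw [map_zero]
    refine (hc _).trans ?_
    rw [map_mul, map_pow]
    exact hn
  exact ⟨n, by rw [← map_pow, ← map_mul, hn, map_zero]⟩

end K121.Sep
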