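import Groth.Agent.EGA43.K121.DomField
import Groth.Agent.EGA43.K121.UnivSep
import Mathlib.AlgebraicGeometry.Noetherian

/-!
# Schematic dominance after base change, in affine charts
-/

set_option autoImplicit false
universe u

open CategoryTheory CategoryTheory.Limits AlgebraicGeometry TensorProduct

namespace K121.Dom

section

variable {X S : Scheme.{u}} (p : X ⟶ S) {ι : Type u} {Z : ι → Scheme.{u}} (f : ∀ i, Z i ⟶ X)

/-- The base change of the family `f` along `q`. -/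
noncomputable abbrev bcFam {S' : Scheme.{u}} (q : S' ⟶ S) (i : ι) : pullback (f i ≫ p) q ⟶ pullback p q :=
  pullback.map (f i ≫ p) q p q (f i) (𝟙 S') (𝟙 S) (Category.comp_id _)
    ((Category.comp_id _).trans (Category.id_comp _).symm)

/-- Index set of the affine charts of the family over `U`. -/
abbrev Idx (U : X.Opens) : Type u := Σ i : ι, {W : (Z i).affineOpens // W.1 ≤ (f i) ⁻¹ᵁ U}

/-- The ring of a chart. -/
abbrev CRing {U : X.Opens} (k : Idx f U) : Type u := Γ(Z k.1, k.2.1.1)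

variable {S₀ : S.Opens} (hS₀ : IsAffineOpen S₀) {U : X.Opens} (hU : IsAffineOpen U) (e : U ≤ p ⁻¹ᵁ S₀)

include e in
theorem idx_le (k : Idx f U) : k.2.1.1 ≤ (f k.1 ≫ p) ⁻¹ᵁ S₀ :=
  k.2.2.trans (fun _ hz => e hz)

/-- The algebra structure on the ring of a chart. -/
noncomputable abbrev algC (k : Idx f U) : Algebra Γ(S, S₀) (CRing f k) :=
  ((f k.1 ≫ p).appLE S₀ k.2.1.1 (idx_le p f e k)).hom.toAlgebra

noncomputable abbrev algB : Algebra Γ(S, S₀) Γ(X, U) := (p.appLE S₀ U e).hom.toAlgebra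

/-- The ring homomorphism of a chart as an algebra homomorphism. -/
noncomputable def phi (k : Idx f U) :
    letI := algB p e; letI := algC p f e k; Γ(X, U) →ₐ[Γ(S, S₀)] CRing f k :=
  letI := algB p e
  letI := algC p f e k
  { ((f k.1).appLE U k.2.1.1 k.2.2).hom with
    commutes' := fun r => by
      have h1 := Scheme.Hom.appLE_comp_appLE (f k.1) p S₀ U k.2.1.1 e k.2.2
      exact ConcreteCategory.congr_hom h1 r }

theorem phi_coe (k : Idx f U) :
    letI := algB p e; letI := algC p f e k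
    (phi p f e k : Γ(X, U) →+* CRing f k) = ((f k.1).appLE U k.2.1.1 k.2.2).hom := rfl

theorem fromSpec_comp (k : Idx f U) :
    letI := algB p e; letI := algC p f e k
    k.2.1.2.fromSpec ≫ f k.1 = Spec.map (CommRingCat.ofHom (phi p f e k : Γ(X, U) →+* CRing f k)) ≫ hU.fromSpec :=
  (IsAffineOpen.SpecMap_appLE_fromSpec (f k.1) hU k.2.1.2 k.2.2).symm

theorem fromSpec_algB :
    letI := algB p e
    hU.fromSpec ≫ p = Spec.map (CommRingCat.ofHom (algebraMap Γ(S, S₀) Γ(X, U))) ≫ hS₀.fromSpec :=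
  (IsAffineOpen.SpecMap_appLE_fromSpec p hS₀ hU e).symm

include hU in
/-- The charts of a dominant base change. -/
theorem rlji_of_sdom_bc (T : Type u) [CommRing T] [Algebra Γ(S, S₀) T] (q : Spec (CommRingCat.of T) ⟶ S)
    (hq : q = Spec.map (CommRingCat.ofHom (algebraMap Γ(S, S₀) T)) ≫ hS₀.fromSpec)
    (h : SDom (fun i => bcFam p f q i)) :
    letI := algB p e; letI := algC p f e
    RLJI (fun k => (Algebra.TensorProduct.map (phi p f e k) (AlgHom.id Γ(S, S₀) T) :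
      Γ(X, U) ⊗[Γ(S, S₀)] T →+* CRing f k ⊗[Γ(S, S₀)] T)) := by
  let := algB p e
  let := algC p f e
  have hT : 𝟙 (Spec (CommRingCat.of T)) ≫ q =
      Spec.map (CommRingCat.ofHom (algebraMap Γ(S, S₀) T)) ≫ hS₀.fromSpec := by
    rw [Category.id_comp, hq]
  have hX := fromSpec_algB p hS₀ hU e
  have := isOpenImmersion_chart p q hS₀.fromSpec hU.fromSpec (𝟙 _) hX hT
  refine rlji_of_dom (fun i => bcFam p f q i) h (chart p q hS₀.fromSpec hU.fromSpec (𝟙 _) hX hT)
    (κ := Idx f U) (C := fun k => CommRingCat.of (CRing f k ⊗[Γ(S, S₀)] T))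
    (fun k => CommRingCat.ofHom (Algebra.TensorProduct.map (phi p f e k) (AlgHom.id Γ(S, S₀) T) :
      Γ(X, U) ⊗[Γ(S, S₀)] T →+* CRing f k ⊗[Γ(S, S₀)] T)) ?_
  intro i z hz
  rw [range_chart] at hz
  have h1 : pullback.fst p q (bcFam p f q i z) = f i (pullback.fst (f i ≫ p) q z) := by
    rw [← Scheme.Hom.comp_apply, ← Scheme.Hom.comp_apply, pullback.lift_fst]
  have hz' : f i (pullback.fst (f i ≫ p) q z) ∈ U := by
    have := hz.1
    rw [Set.mem_preimage, h1] at this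
    rw [← SetLike.mem_coe, ← hU.range_fromSpec]
    exact this
  obtain ⟨W, hW, hzW, hWU⟩ := exists_isAffineOpen_mem_and_subset (x := pullback.fst (f i ≫ p) q z)
    (U := (f i) ⁻¹ᵁ U) hz'
  let k : Idx f U := ⟨i, ⟨⟨W, hW⟩, hWU⟩⟩
  have hZ := fromSpec_comp p f hU e k
  have := isOpenImmersion_chart (f i ≫ p) q hS₀.fromSpec k.2.1.2.fromSpec (𝟙 _)
    (chart_comp_condition p hS₀.fromSpec hU.fromSpec hX (f i) (phi p f e k) k.2.1.2.fromSpec hZ) hT
  refine ⟨k, chart (f i ≫ p) q hS₀.fromSpec k.2.1.2.fromSpec (𝟙 _)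
    (chart_comp_condition p hS₀.fromSpec hU.fromSpec hX (f i) (phi p f e k) k.2.1.2.fromSpec hZ) hT,
    inferInstance, ?_, chart_map p q hS₀.fromSpec hU.fromSpec (𝟙 _) hX hT (f i) (phi p f e k) k.2.1.2.fromSpec hZ⟩
  rw [range_chart]
  refine ⟨?_, ?_⟩
  · change pullback.fst (f i ≫ p) q z ∈ Set.range hW.fromSpec
    rw [hW.range_fromSpec]
    exact hzW
  · exact ⟨_, rfl⟩

omit hS₀ hU in
/-- Dominance of a base change from its charts. -/
theorem sdom_bc_of_rlji {S' : Scheme.{u}} (g : S' ⟶ S)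
    (H : ∀ (S₀ : S.Opens) (_ : IsAffineOpen S₀) (U : X.Opens) (_ : IsAffineOpen U) (e : U ≤ p ⁻¹ᵁ S₀)
      (T : S'.Opens) (_ : IsAffineOpen T) (eT : T ≤ g ⁻¹ᵁ S₀),
      letI := algB p e; letI := algC p f e; letI : Algebra Γ(S, S₀) Γ(S', T) := (g.appLE S₀ T eT).hom.toAlgebra
      RLJI (fun k => (Algebra.TensorProduct.map (phi p f e k) (AlgHom.id Γ(S, S₀) Γ(S', T)) :
        Γ(X, U) ⊗[Γ(S, S₀)] Γ(S', T) →+* CRing f k ⊗[Γ(S, S₀)] Γ(S', T)))) :
    SDom (fun i => bcFam p f g i) := by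
  refine dom_of_local _ fun x' => ?_
  obtain ⟨S₀, hS₀, hsS₀, -⟩ := exists_isAffineOpen_mem_and_subset (x := p (pullback.fst p g x')) (U := ⊤) trivial
  obtain ⟨U, hU, hxU, e⟩ := exists_isAffineOpen_mem_and_subset (x := pullback.fst p g x') (U := p ⁻¹ᵁ S₀) hsS₀
  have hg : pullback.snd p g x' ∈ g ⁻¹ᵁ S₀ := by
    have h1 : g (pullback.snd p g x') = p (pullback.fst p g x') := by
      rw [← Scheme.Hom.comp_apply, ← Scheme.Hom.comp_apply, pullback.condition]
    change g (pullback.snd p g x') ∈ S₀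
    rw [h1]
    exact hsS₀
  obtain ⟨T, hT, hxT, eT⟩ := exists_isAffineOpen_mem_and_subset (x := pullback.snd p g x') (U := g ⁻¹ᵁ S₀) hg
  let := algB p e
  let := algC p f e
  let : Algebra Γ(S, S₀) Γ(S', T) := (g.appLE S₀ T eT).hom.toAlgebra
  have h2 := H S₀ hS₀ U hU e T hT eT
  have hX := fromSpec_algB p hS₀ hU e
  have hT' : hT.fromSpec ≫ g = Spec.map (CommRingCat.ofHom (algebraMap Γ(S, S₀) Γ(S', T))) ≫ hS₀.fromSpec :=
    (IsAffineOpen.SpecMap_appLE_fromSpec g hS₀ hT eT).symm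
  refine ⟨CommRingCat.of (Γ(X, U) ⊗[Γ(S, S₀)] Γ(S', T)), chart p g hS₀.fromSpec hU.fromSpec hT.fromSpec hX hT',
    isOpenImmersion_chart p g hS₀.fromSpec hU.fromSpec hT.fromSpec hX hT', ?_, Idx f U,
    fun k => CommRingCat.of (CRing f k ⊗[Γ(S, S₀)] Γ(S', T)),
    fun k => CommRingCat.ofHom (Algebra.TensorProduct.map (phi p f e k) (AlgHom.id Γ(S, S₀) Γ(S', T)) :
      Γ(X, U) ⊗[Γ(S, S₀)] Γ(S', T) →+* CRing f k ⊗[Γ(S, S₀)] Γ(S', T)), h2, fun k => ?_⟩
  · rw [range_chart]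
    refine ⟨?_, ?_⟩
    · change pullback.fst p g x' ∈ Set.range hU.fromSpec
      rw [hU.range_fromSpec]
      exact hxU
    · change pullback.snd p g x' ∈ Set.range hT.fromSpec
      rw [hT.range_fromSpec]
      exact hxT
  · exact ⟨k.1, _, chart_map p g hS₀.fromSpec hU.fromSpec hT.fromSpec hX hT' (f k.1) (phi p f e k)
      k.2.1.2.fromSpec (fromSpec_comp p f hU e k)⟩

omit hU in
include hS₀ in
/-- The residue field of a point of an affine open. -/
theorem exists_residueField (P : Ideal Γ(S, S₀)) [P.IsPrime] : ∃ (s : S) (hs : s ∈ S₀),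
    RingHom.ker (S.evaluation S₀ s hs).hom = P ∧
    S.fromSpecResidueField s = Spec.map (S.evaluation S₀ s hs) ≫ hS₀.fromSpec := by
  let x : Spec Γ(S, S₀) := ⟨P, inferInstance⟩
  have hx : hS₀.fromSpec x ∈ S₀ := by
    rw [← SetLike.mem_coe, ← hS₀.range_fromSpec]
    exact ⟨x, rfl⟩
  refine ⟨hS₀.fromSpec x, hx, ?_, ?_⟩
  · ext a
    rw [RingHom.mem_ker]
    change S.evaluation S₀ _ hx a = 0 ↔ _
    rw [Scheme.evaluation_eq_zero_iff_notMem_basicOpen]
    have h1 : hS₀.fromSpec x ∈ S.basicOpen a ↔ a ∉ P := by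
      change x ∈ hS₀.fromSpec ⁻¹ᵁ S.basicOpen a ↔ _
      rw [hS₀.fromSpec_preimage_basicOpen a]
      rfl
    rw [h1, not_not]
  · rw [Scheme.fromSpecResidueField, ← IsAffineOpen.fromSpecStalk_eq_fromSpecStalk hS₀ hx, IsAffineOpen.fromSpecStalk,
      ← Category.assoc, ← Spec.map_comp]
    rfl

include hS₀ hU in
/-- Fibrewise dominance in charts. -/
theorem rlji_of_sdom_fibre (h : ∀ s : S, SDom (fun i => bcFam p f (S.fromSpecResidueField s) i))
    (P : Ideal Γ(S, S₀)) [P.IsPrime] :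
    letI := algB p e; letI := algC p f e
    RLJI (fun k => (Algebra.TensorProduct.map (phi p f e k) (AlgHom.id Γ(S, S₀) P.ResidueField) :
      Γ(X, U) ⊗[Γ(S, S₀)] P.ResidueField →+* CRing f k ⊗[Γ(S, S₀)] P.ResidueField)) := by
  let := algB p e
  let := algC p f e
  obtain ⟨s, hs, hker, hfac⟩ := exists_residueField hS₀ P
  let K : Type u := S.residueField s
  let _ : Algebra Γ(S, S₀) K := (S.evaluation S₀ s hs).hom.toAlgebra
  have h1 := rlji_of_sdom_bc p f hS₀ hU e K (S.fromSpecResidueField s) hfac (h s)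
  let _ : Algebra P.ResidueField K := (Ideal.ResidueField.lift P (algebraMap Γ(S, S₀) K) hker.ge (by
    intro a ha
    refine IsUnit.mk0 _ fun h0 => ha ?_
    rw [← hker]
    exact h0)).toAlgebra
  have : IsScalarTower Γ(S, S₀) P.ResidueField K := IsScalarTower.of_algebraMap_eq fun a =>
    (Ideal.ResidueField.lift_algebraMap P (algebraMap Γ(S, S₀) K) hker.ge _ a).symm
  exact Sep.rlji_field_down (phi p f e) P.ResidueField K h1

end

/-- **Universal schematic dominance from the fibres**, locally Noetherian source. -/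
theorem sdom_univ_of_fibre {X S : Scheme.{u}} [IsLocallyNoetherian X] (p : X ⟶ S) {ι : Type u}
    (Z : ι → Scheme.{u}) (f : ∀ i, Z i ⟶ X) [∀ i, Flat (f i ≫ p)]
    (h : ∀ s : S, SDom (fun i => bcFam p f (S.fromSpecResidueField s) i)) {S' : Scheme.{u}} (g : S' ⟶ S) :
    SDom (fun i => bcFam p f g i) := by
  refine sdom_bc_of_rlji p f g fun S₀ hS₀ U hU e T hT eT => ?_
  let := algB p e
  let := algC p f e
  let : Algebra Γ(S, S₀) Γ(S', T) := (g.appLE S₀ T eT).hom.toAlgebra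
  have : IsNoetherianRing Γ(X, U) := IsLocallyNoetherian.component_noetherian ⟨U, hU⟩
  have : ∀ k : Idx f U, Module.Flat Γ(S, S₀) (CRing f k) := fun k =>
    Flat.flat_appLE (f k.1 ≫ p) hS₀ k.2.1.2 (idx_le p f e k)
  exact Sep.rlji_univ (phi p f e) (fun P _ => rlji_of_sdom_fibre p f hS₀ hU e h P) Γ(S', T)

end K121.Dom
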