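import Mathlib.AlgebraicGeometry.Morphisms.Flat
import Mathlib.AlgebraicGeometry.Pullbacks
import Mathlib.RingTheory.Flat.FaithfullyFlat.Algebra

/-!
# Schematically dominant families: elementary facts about sections
-/

set_option autoImplicit false
universe u
open CategoryTheory AlgebraicGeometry

namespace K121.Dom

/-- A section whose germs all vanish is zero. -/
theorem eq_zero_of_germ {X : Scheme.{u}} {V : X.Opens} {t : Γ(X, V)}
    (h : ∀ (x : X) (hx : x ∈ V), X.presheaf.germ V x hx t = 0) : t = 0 := by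
  apply TopCat.Presheaf.section_ext X.sheaf V t 0
  intro x hx
  exact (h x hx).trans (map_zero (X.presheaf.germ V x hx).hom).symm

/-- A section that vanishes near every point is zero. -/
theorem eq_zero_of_local {X : Scheme.{u}} {V : X.Opens} {t : Γ(X, V)}
    (h : ∀ x ∈ V, ∃ (W : X.Opens) (hW : W ≤ V), x ∈ W ∧ X.presheaf.map (homOfLE hW).op t = 0) : t = 0 := by
  refine eq_zero_of_germ fun x hx => ?_
  obtain ⟨W, hW, hxW, h0⟩ := h x hx
  have h1 : X.presheaf.germ V x hx t = X.presheaf.germ W x hxW (X.presheaf.map (homOfLE hW).op t) :=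
    (TopCat.Presheaf.germ_res_apply X.presheaf (homOfLE hW) x hxW t).symm
  rw [h1, h0]
  exact map_zero (X.presheaf.germ W x hxW).hom

theorem comp_app_apply {X Y Z : Scheme.{u}} (f : X ⟶ Y) (g : Y ⟶ Z) (V : Z.Opens) (t : Γ(Z, V)) :
    (f ≫ g).app V t = f.app (g ⁻¹ᵁ V) (g.app V t) := by
  rw [Scheme.Hom.comp_app]
  rfl

theorem app_congr_zero {X Y : Scheme.{u}} {f g : X ⟶ Y} (h : f = g) (V : Y.Opens) (t : Γ(Y, V)) :
    f.app V t = 0 ↔ g.app V t = 0 := by
  subst h
  rfl

theorem app_map_zero {X Y : Scheme.{u}} (f : X ⟶ Y) {V W : Y.Opens} (hW : W ≤ V) (t : Γ(Y, V))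
    (h : f.app V t = 0) : f.app W (Y.presheaf.map (homOfLE hW).op t) = 0 := by
  have h1 := ConcreteCategory.congr_hom (f.naturality (homOfLE hW).op) t
  have h2 : f.app W (Y.presheaf.map (homOfLE hW).op t) =
      X.presheaf.map ((TopologicalSpace.Opens.map f.base).map (homOfLE hW)).op (f.app V t) := h1
  rw [h2, h]
  exact map_zero (X.presheaf.map ((TopologicalSpace.Opens.map f.base).map (homOfLE hW)).op).hom

theorem comp_app_zero {X Y Z : Scheme.{u}} (f : X ⟶ Y) (g : Y ⟶ Z) (V : Z.Opens) (t : Γ(Z, V)) :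
    (f ≫ g).app V t = 0 ↔ f.app (g ⁻¹ᵁ V) (g.app V t) = 0 := by
  rw [← comp_app_apply]
  rfl

theorem comp_app_zero_of {X Y Z : Scheme.{u}} (f : X ⟶ Y) (g : Y ⟶ Z) (V : Z.Opens) (t : Γ(Z, V))
    (h : g.app V t = 0) : (f ≫ g).app V t = 0 := by
  rw [comp_app_zero, h]
  exact map_zero (f.app (g ⁻¹ᵁ V)).hom

theorem morphismRestrict_app_zero_iff {X Y : Scheme.{u}} (f : X ⟶ Y) (U : Y.Opens) (V : (U : Scheme.{u}).Opens)
    (t : Γ(U, V)) : (f ∣_ U).app V t = 0 ↔ f.app (U.ι ''ᵁ V) t = 0 := by
  rw [morphismRestrict_app]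
  have hinj : Function.Injective (X.presheaf.map (eqToHom (image_morphismRestrict_preimage f U V)).op).hom :=
    ConcreteCategory.injective_of_mono_of_preservesPullback _
  exact map_eq_zero_iff (X.presheaf.map (eqToHom (image_morphismRestrict_preimage f U V)).op).hom hinj

/-- Pulling back sections along a faithfully flat morphism is injective. -/
theorem eq_zero_of_flat_surjective {X X' : Scheme.{u}} (g : X' ⟶ X) [Flat g] [Surjective g] {V : X.Opens}
    {t : Γ(X, V)} (h1 : g.app V t = 0) : t = 0 := by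
  refine eq_zero_of_germ fun x hx => ?_
  obtain ⟨x', rfl⟩ := g.surjective x
  have hinj : Function.Injective (g.stalkMap x').hom := by
    let _ := (g.stalkMap x').hom.toAlgebra
    have : Module.Flat (X.presheaf.stalk (g x')) (X'.presheaf.stalk x') := Flat.stalkMap g x'
    have : IsLocalHom (algebraMap (X.presheaf.stalk (g x')) (X'.presheaf.stalk x')) :=
      inferInstanceAs (IsLocalHom (g.stalkMap x').hom)
    have := Module.FaithfullyFlat.of_flat_of_isLocalHom (A := X.presheaf.stalk (g x')) (B := X'.presheaf.stalk x')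
    exact FaithfulSMul.algebraMap_injective (X.presheaf.stalk (g x')) (X'.presheaf.stalk x')
  apply hinj
  have e3 := Scheme.Hom.germ_stalkMap_apply g V x' hx t
  rw [map_zero]
  refine e3.trans ?_
  rw [h1]
  exact map_zero (X'.presheaf.germ (g ⁻¹ᵁ V) x' hx).hom

end K121.Dom
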