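import Groth.Agent.EGA43.K121.DomLocal
import Mathlib.AlgebraicGeometry.PullbackCarrier
import Mathlib.AlgebraicGeometry.Morphisms.Affine

/-!
# Affine charts of fibre products and of morphisms between them
-/

set_option autoImplicit false
universe u

open CategoryTheory CategoryTheory.Limits AlgebraicGeometry TensorProduct

namespace K121.Dom

section Chart

variable {X S S' : Scheme.{u}} (p : X ⟶ S) (q : S' ⟶ S) {R A B : Type u} [CommRing R] [CommRing A] [CommRing B]
  [Algebra R A] [Algebra R B] (iS : Spec (CommRingCat.of R) ⟶ S) (iX : Spec (CommRingCat.of A) ⟶ X)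
  (iT : Spec (CommRingCat.of B) ⟶ S')
  (hX : iX ≫ p = Spec.map (CommRingCat.ofHom (algebraMap R A)) ≫ iS)
  (hT : iT ≫ q = Spec.map (CommRingCat.ofHom (algebraMap R B)) ≫ iS)

include hX hT in
theorem chart_condition :
    (Spec.map (CommRingCat.ofHom (Algebra.TensorProduct.includeLeftRingHom : A →+* A ⊗[R] B)) ≫ iX) ≫ p =
      (Spec.map (CommRingCat.ofHom (Algebra.TensorProduct.includeRight : B →ₐ[R] A ⊗[R] B).toRingHom) ≫ iT) ≫ q := by
  rw [Category.assoc, Category.assoc, hX, hT, ← Category.assoc, ← Category.assoc, ← Spec.map_comp, ← Spec.map_comp]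
  congr 2
  ext a
  exact ((Algebra.TensorProduct.includeLeft (S := R) (R := R) (A := A) (B := B)).commutes a).trans
    ((Algebra.TensorProduct.includeRight (R := R) (A := A) (B := B)).commutes a).symm

/-- The chart `Spec (A ⊗ B) ⟶ X ×_S S'`. -/
noncomputable def chart : Spec (CommRingCat.of (A ⊗[R] B)) ⟶ pullback p q :=
  pullback.lift (Spec.map (CommRingCat.ofHom (Algebra.TensorProduct.includeLeftRingHom : A →+* A ⊗[R] B)) ≫ iX)
    (Spec.map (CommRingCat.ofHom (Algebra.TensorProduct.includeRight : B →ₐ[R] A ⊗[R] B).toRingHom) ≫ iT)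
    (chart_condition p q iS iX iT hX hT)

theorem chart_fst : chart p q iS iX iT hX hT ≫ pullback.fst p q =
    Spec.map (CommRingCat.ofHom (Algebra.TensorProduct.includeLeftRingHom : A →+* A ⊗[R] B)) ≫ iX :=
  pullback.lift_fst _ _ _

theorem chart_snd : chart p q iS iX iT hX hT ≫ pullback.snd p q =
    Spec.map (CommRingCat.ofHom (Algebra.TensorProduct.includeRight : B →ₐ[R] A ⊗[R] B).toRingHom) ≫ iT :=
  pullback.lift_snd _ _ _

theorem chart_eq : chart p q iS iX iT hX hT = (pullbackSpecIso R A B).inv ≫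
    pullback.map _ _ p q iX iT iS hX.symm hT.symm := by
  apply pullback.hom_ext
  · rw [chart_fst, Category.assoc, pullback.lift_fst, pullbackSpecIso_inv_fst_assoc]
  · rw [chart_snd, Category.assoc, pullback.lift_snd, pullbackSpecIso_inv_snd_assoc]
    rfl

theorem isOpenImmersion_chart [IsOpenImmersion iX] [IsOpenImmersion iT] [Mono iS] :
    IsOpenImmersion (chart p q iS iX iT hX hT) := by
  rw [chart_eq]
  infer_instance

theorem range_chart [Mono iS] : Set.range (chart p q iS iX iT hX hT) =
    pullback.fst p q ⁻¹' Set.range iX ∩ pullback.snd p q ⁻¹' Set.range iT := by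
  rw [chart_eq, ← Scheme.Pullback.range_map _ _ p q iX iT iS hX.symm hT.symm]
  rw [Scheme.Hom.comp_base, TopCat.coe_comp, Set.range_comp, Set.range_eq_univ.mpr, Set.image_univ]
  exact (pullbackSpecIso R A B).inv.surjective

variable {Z : Scheme.{u}} (f : Z ⟶ X) {C : Type u} [CommRing C] [Algebra R C] (φ : A →ₐ[R] C)
  (iZ : Spec (CommRingCat.of C) ⟶ Z)
  (hZ : iZ ≫ f = Spec.map (CommRingCat.ofHom (φ : A →+* C)) ≫ iX)

include hX hZ in
theorem chart_comp_condition : iZ ≫ f ≫ p = Spec.map (CommRingCat.ofHom (algebraMap R C)) ≫ iS := by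
  rw [← Category.assoc, hZ, Category.assoc, hX, ← Category.assoc, ← Spec.map_comp]
  congr 2
  ext a
  exact φ.commutes a

theorem chart_map :
    chart (f ≫ p) q iS iZ iT (chart_comp_condition p iS iX hX f φ iZ hZ) hT ≫
      pullback.map (f ≫ p) q p q f (𝟙 S') (𝟙 S) (Category.comp_id _)
        ((Category.comp_id _).trans (Category.id_comp _).symm) =
    Spec.map (CommRingCat.ofHom (Algebra.TensorProduct.map φ (AlgHom.id R B) : A ⊗[R] B →+* C ⊗[R] B)) ≫
      chart p q iS iX iT hX hT := by
  apply pullback.hom_ext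
  · rw [Category.assoc, Category.assoc, pullback.lift_fst, chart_fst, ← Category.assoc, chart_fst, Category.assoc, hZ,
      ← Category.assoc, ← Category.assoc, ← Spec.map_comp, ← Spec.map_comp]
    congr 2
  · rw [Category.assoc, Category.assoc, pullback.lift_snd, chart_snd, ← Category.assoc, chart_snd, Category.comp_id,
      ← Category.assoc, ← Spec.map_comp]
    congr 2
    ext a
    simp

end Chart

end K121.Dom
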