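import Groth.Agent.EGA43.K121.SepRing
import Mathlib.AlgebraicGeometry.Morphisms.FinitePresentation

/-!
# Schematic dominance is preserved by flat base change locally of finite presentation
-/

set_option autoImplicit false
universe u

open CategoryTheory AlgebraicGeometry TensorProduct

namespace K121.Dom

/-- The affine charts of a family over an affine open. -/
theorem rlji_charts {X : Scheme.{u}} {ι : Type*} {Z : ι → Scheme.{u}} (f : ∀ i, Z i ⟶ X) (hf : SDom f)
    {U : X.Opens} (hU : IsAffineOpen U) :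
    RLJI (fun k : (Σ i : ι, {W : (Z i).affineOpens // W.1 ≤ (f i) ⁻¹ᵁ U}) =>
      ((f k.1).appLE U k.2.1.1 k.2.2).hom) := by
  refine rlji_of_dom f hf hU.fromSpec (κ := (Σ i : ι, {W : (Z i).affineOpens // W.1 ≤ (f i) ⁻¹ᵁ U}))
    (C := fun k => Γ(Z k.1, k.2.1.1)) (fun k => (f k.1).appLE U k.2.1.1 k.2.2) ?_
  intro i z hz
  have hz' : f i z ∈ U := by
    rw [← SetLike.mem_coe, ← hU.range_fromSpec]
    exact hz
  obtain ⟨W, hW, hzW, hWU⟩ := exists_isAffineOpen_mem_and_subset (x := z) (U := (f i) ⁻¹ᵁ U) hz'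
  refine ⟨⟨i, ⟨⟨W, hW⟩, hWU⟩⟩, hW.fromSpec, inferInstance, ?_, ?_⟩
  · rw [hW.range_fromSpec]
    exact hzW
  · exact (IsAffineOpen.SpecMap_appLE_fromSpec (f i) hU hW hWU).symm

theorem sdom_flat_lfp {X X' : Scheme.{u}} {ι : Type u} (Z : ι → Scheme.{u})
    (f : ∀ i, Z i ⟶ X) (g : X' ⟶ X) [Flat g] [LocallyOfFinitePresentation g] (h : SDom f) :
    SDom (fun i => Limits.pullback.snd (f i) g) := by
  refine dom_of_local _ fun x' => ?_
  obtain ⟨U, hU, hxU, -⟩ := exists_isAffineOpen_mem_and_subset (x := g x') (U := ⊤) trivial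
  obtain ⟨U', hU', hxU', e⟩ := exists_isAffineOpen_mem_and_subset (x := x') (U := g ⁻¹ᵁ U) hxU
  let A := Γ(X, U)
  let B := Γ(X', U')
  let κ := (Σ i : ι, {W : (Z i).affineOpens // W.1 ≤ (f i) ⁻¹ᵁ U})
  let C : κ → Type u := fun k => Γ(Z k.1, k.2.1.1)
  let _ : Algebra A B := (g.appLE U U' e).hom.toAlgebra
  let _ : ∀ k, Algebra A (C k) := fun k => ((f k.1).appLE U k.2.1.1 k.2.2).hom.toAlgebra
  have hfp : Algebra.FinitePresentation A B := LocallyOfFinitePresentation.finitePresentation_appLE g hU hU' e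
  have hfl : Module.Flat A B := Flat.flat_appLE g hU hU' e
  have h1 : RLJI (fun k => algebraMap A (C k)) := rlji_charts f h hU
  have h2 := Sep.rlji_flat_fp (B := B) h1
  refine ⟨B, hU'.fromSpec, inferInstance, ?_, κ, fun k => CommRingCat.of (B ⊗[A] C k),
    fun k => CommRingCat.ofHom Algebra.TensorProduct.includeLeftRingHom, h2, fun k => ?_⟩
  · rw [hU'.range_fromSpec]
    exact hxU'
  · refine ⟨k.1, Limits.pullback.lift
      (Spec.map (CommRingCat.ofHom (Algebra.TensorProduct.includeRight : C k →ₐ[A] B ⊗[A] C k).toRingHom) ≫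
        k.2.1.2.fromSpec)
      (Spec.map (CommRingCat.ofHom Algebra.TensorProduct.includeLeftRingHom) ≫ hU'.fromSpec) ?_, ?_⟩
    · rw [Category.assoc, Category.assoc, ← IsAffineOpen.SpecMap_appLE_fromSpec g hU hU' e,
        ← IsAffineOpen.SpecMap_appLE_fromSpec (f k.1) hU k.2.1.2 k.2.2, ← Category.assoc, ← Category.assoc,
        ← Spec.map_comp, ← Spec.map_comp]
      congr 2
      ext a
      exact (Algebra.TensorProduct.includeRight.commutes a).trans
        ((Algebra.TensorProduct.includeLeft (S := A) (R := A) (A := B) (B := C k)).commutes a).symm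
    · rw [Limits.pullback.lift_snd]

end K121.Dom
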