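import Groth.Agent.EGA43.K121.SepRing
import Groth.Agent.EGA43.K121.DomFlat
import Groth.Agent.EGA43.K121.DomChart

/-!
# Schematic dominance over a field is preserved by arbitrary base change
-/

set_option autoImplicit false
universe u

open CategoryTheory CategoryTheory.Limits AlgebraicGeometry TensorProduct

namespace K121.Dom

theorem sdom_field {k : Type u} [Field k] {X S' : Scheme.{u}}
    (p : X ⟶ Spec (CommRingCat.of k)) (q : S' ⟶ Spec (CommRingCat.of k))
    {ι : Type u} (Z : ι → Scheme.{u}) (f : ∀ i, Z i ⟶ X) (h : SDom f) :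
    SDom (fun i => pullback.map (f i ≫ p) q p q (f i) (𝟙 S') (𝟙 _) (Category.comp_id _)
      ((Category.comp_id _).trans (Category.id_comp _).symm)) := by
  refine dom_of_local _ fun x' => ?_
  obtain ⟨U, hU, hxU, -⟩ := exists_isAffineOpen_mem_and_subset (x := pullback.fst p q x') (U := ⊤) trivial
  obtain ⟨T, hT, hxT, -⟩ := exists_isAffineOpen_mem_and_subset (x := pullback.snd p q x') (U := ⊤) trivial
  let A := Γ(X, U)
  let B := Γ(S', T)
  let κ := (Σ i : ι, {W : (Z i).affineOpens // W.1 ≤ (f i) ⁻¹ᵁ U})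
  let C : κ → Type u := fun k => Γ(Z k.1, k.2.1.1)
  let ψA : CommRingCat.of k ⟶ A := Spec.preimage (hU.fromSpec ≫ p)
  let ψB : CommRingCat.of k ⟶ B := Spec.preimage (hT.fromSpec ≫ q)
  let _ : Algebra k A := ψA.hom.toAlgebra
  let _ : Algebra k B := ψB.hom.toAlgebra
  let _ : ∀ k', Algebra k (C k') := fun k' => (ψA ≫ (f k'.1).appLE U k'.2.1.1 k'.2.2).hom.toAlgebra
  let φ : ∀ k', A →ₐ[k] C k' := fun k' => { ((f k'.1).appLE U k'.2.1.1 k'.2.2).hom with commutes' := fun _ => rfl }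
  have h1 : RLJI (fun k' => (φ k' : A →+* C k')) := rlji_charts f h hU
  have h2 := Sep.rlji_field (B := B) φ h1
  have hX : hU.fromSpec ≫ p = Spec.map (CommRingCat.ofHom (algebraMap k A)) ≫ 𝟙 _ := by
    rw [Category.comp_id]
    exact (Spec.map_preimage _).symm
  have hT' : hT.fromSpec ≫ q = Spec.map (CommRingCat.ofHom (algebraMap k B)) ≫ 𝟙 _ := by
    rw [Category.comp_id]
    exact (Spec.map_preimage _).symm
  refine ⟨CommRingCat.of (A ⊗[k] B), chart p q (𝟙 _) hU.fromSpec hT.fromSpec hX hT',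
    isOpenImmersion_chart p q (𝟙 _) hU.fromSpec hT.fromSpec hX hT', ?_, κ, fun k' => CommRingCat.of (C k' ⊗[k] B),
    fun k' => CommRingCat.ofHom (Algebra.TensorProduct.map (φ k') (AlgHom.id k B) : A ⊗[k] B →+* C k' ⊗[k] B),
    h2, fun k' => ?_⟩
  · rw [range_chart]
    refine ⟨?_, ?_⟩
    · change pullback.fst p q x' ∈ Set.range hU.fromSpec
      rw [hU.range_fromSpec]
      exact hxU
    · change pullback.snd p q x' ∈ Set.range hT.fromSpec
      rw [hT.range_fromSpec]
      exact hxT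
  · have hZ : k'.2.1.2.fromSpec ≫ f k'.1 = Spec.map (CommRingCat.ofHom (φ k' : A →+* C k')) ≫ hU.fromSpec :=
      (IsAffineOpen.SpecMap_appLE_fromSpec (f k'.1) hU k'.2.1.2 k'.2.2).symm
    exact ⟨k'.1, _, chart_map p q (𝟙 _) hU.fromSpec hT.fromSpec hX hT' (f k'.1) (φ k') k'.2.1.2.fromSpec hZ⟩

end K121.Dom
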