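import Groth.Agent.EGA43.K121.AdicSep
import Mathlib.RingTheory.Filtration
import Mathlib.RingTheory.LocalRing.ResidueField.Ideal
import Mathlib.RingTheory.LocalProperties.Basic
import Mathlib.RingTheory.Flat.Stability

/-!
# Fibrewise joint injectivity implies joint injectivity, Noetherian source

`eq_zero_of_fibre`: `B` a Noetherian `A`-algebra, `v j : B → C j` `A`-linear with `C j` flat over
`A`, such that the family is jointly injective over every residue field of `A`; then it is jointly
injective.
-/

set_option autoImplicit false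

open TensorProduct

namespace K121.Sep

theorem eq_zero_of_fibre {A B : Type*} [CommRing A] [CommRing B] [Algebra A B] [IsNoetherianRing B]
    {J : Type*} {C : J → Type*} [∀ j, AddCommGroup (C j)] [∀ j, Module A (C j)] [∀ j, Module.Flat A (C j)]
    (v : ∀ j, B →ₗ[A] C j)
    (h : ∀ (p : Ideal A) [p.IsPrime] (x : p.ResidueField ⊗[A] B),
      (∀ j, (v j).lTensor p.ResidueField x = 0) → x = 0)
    (b : B) (hb : ∀ j, v j b = 0) : b = 0 := by
  refine eq_zero_of_localization b fun q hq => ?_
  let p : Ideal A := q.comap (algebraMap A B)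
  let Ap := Localization.AtPrime p
  let m := IsLocalRing.maximalIdeal Ap
  let Bq := Localization.AtPrime q
  let ρ : Ap →+* Bq := Localization.localRingHom p q (algebraMap A B) rfl
  have hb' : ∀ n : ℕ, (1 : Ap) ⊗ₜ[A] b ∈ (m ^ n • ⊤ : Submodule Ap (Ap ⊗[A] B)) := by
    intro n
    refine mem_pow_smul_top (A := Ap) m (N' := fun j => Ap ⊗[A] C j) (fun j => (v j).baseChange Ap) ?_ _ ?_ n
    · intro x hx
      let e := AlgebraTensorModule.cancelBaseChange A Ap Ap (Ap ⧸ m) B
      apply e.injective
      rw [map_zero]
      refine h p (e x) fun j => ?_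
      have h1 : ∀ y : (Ap ⧸ m) ⊗[Ap] (Ap ⊗[A] B),
          (v j).lTensor (Ap ⧸ m) (e y) = AlgebraTensorModule.cancelBaseChange A Ap Ap (Ap ⧸ m) (C j)
            (((v j).baseChange Ap).lTensor (Ap ⧸ m) y) := by
        intro y
        induction y using TensorProduct.induction_on with
        | zero => simp
        | add y z hy hz => simp only [map_add, hy, hz]
        | tmul r y =>
          induction y using TensorProduct.induction_on with
          | zero => simp
          | add y z hy hz => simp only [map_add, TensorProduct.tmul_add, hy, hz]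
          | tmul a y => simp [e]
      have h2 := h1 x
      rw [hx j, map_zero] at h2
      exact h2
    · intro j
      rw [LinearMap.baseChange_tmul, hb j, TensorProduct.tmul_zero]
  -- map to `B_q`
  let _ : Algebra Ap Bq := ρ.toAlgebra
  have : IsScalarTower A Ap Bq := IsScalarTower.of_algebraMap_eq fun a => by
    rw [IsScalarTower.algebraMap_apply A B Bq]
    exact (Localization.localRingHom_to_map p q (algebraMap A B) rfl a).symm
  let σ : Ap ⊗[A] B →ₐ[Ap] Bq := Algebra.TensorProduct.lift (Algebra.ofId Ap Bq) (IsScalarTower.toAlgHom A B Bq)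
    (fun _ _ => Commute.all _ _)
  have hσ : σ (1 ⊗ₜ b) = algebraMap B Bq b := by simp [σ]
  have hkr : (⨅ n : ℕ, (IsLocalRing.maximalIdeal Bq) ^ n) = ⊥ :=
    Ideal.iInf_pow_eq_bot_of_isLocalRing _ (IsLocalRing.maximalIdeal.isMaximal Bq).ne_top
  have hmem : algebraMap B Bq b ∈ (⨅ n : ℕ, (IsLocalRing.maximalIdeal Bq) ^ n) := by
    rw [Submodule.mem_iInf]
    intro n
    have h3 := Submodule.mem_map_of_mem (f := σ.toLinearMap) (hb' n)
    rw [Submodule.map_smul''] at h3
    have h4 : σ.toLinearMap (1 ⊗ₜ b) = algebraMap B Bq b := hσ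
    rw [h4] at h3
    have h5 : (m ^ n • Submodule.map σ.toLinearMap ⊤ : Submodule Ap Bq) ≤
        ((IsLocalRing.maximalIdeal Bq) ^ n).restrictScalars Ap := by
      refine Submodule.smul_le.mpr fun r hr x _ => ?_
      rw [Algebra.smul_def]
      refine Ideal.mul_mem_right _ _ ?_
      have h6 : m ^ n ≤ ((IsLocalRing.maximalIdeal Bq) ^ n).comap (algebraMap Ap Bq) := by
        refine le_trans ?_ (Ideal.le_comap_pow _ n)
        refine Ideal.pow_right_mono ?_ n
        have hloc : IsLocalHom (algebraMap Ap Bq) := Localization.isLocalHom_localRingHom p q (algebraMap A B) rfl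
        exact ((IsLocalRing.local_hom_TFAE (algebraMap Ap Bq)).out 0 3).mp hloc
      exact h6 hr
    exact h5 h3
  rw [hkr] at hmem
  exact hmem

end K121.Sep
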