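import Mathlib.RingTheory.TensorProduct.IsBaseChangeRightExact
import Groth.Agent.FlatA.FlatDescent

/-!
# Quotients `M ⧸ I M` and base change
-/

set_option autoImplicit false
universe u

open TensorProduct

namespace K121.Gr

theorem flat_of_algHom {R D E X : Type u} [CommRing R] [CommRing D] [CommRing E] [Algebra R D] [Algebra R E]
    [AddCommGroup X] [Module R X] (w : D →ₐ[R] E) (h : Module.Flat D (D ⊗[R] X)) :
    Module.Flat E (E ⊗[R] X) := by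
  let _ : Algebra D E := w.toRingHom.toAlgebra
  have : IsScalarTower R D E := IsScalarTower.of_algebraMap_eq fun r => (w.commutes r).symm
  exact Module.Flat.of_linearEquiv (AlgebraTensorModule.cancelBaseChange R D E E X).symm

section

variable {B₁ B₀ M₁ M₀ : Type u} [CommRing B₁] [CommRing B₀] [Algebra B₁ B₀] [AddCommGroup M₁] [Module B₁ M₁]
  [AddCommGroup M₀] [Module B₀ M₀] [Module B₁ M₀] [IsScalarTower B₁ B₀ M₀] (g : M₁ →ₗ[B₁] M₀)

variable (B₀) in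
/-- The map `M₁ ⧸ I M₁ → M₀ ⧸ (I B₀) M₀`. -/
noncomputable def quotMap (I : Ideal B₁) :
    (M₁ ⧸ (I • ⊤ : Submodule B₁ M₁)) →ₗ[B₁] (M₀ ⧸ (I.map (algebraMap B₁ B₀) • ⊤ : Submodule B₀ M₀)) :=
  (I • ⊤ : Submodule B₁ M₁).liftQ
    (((I.map (algebraMap B₁ B₀) • ⊤ : Submodule B₀ M₀).mkQ).restrictScalars B₁ ∘ₗ g) (by
      intro x hx
      rw [LinearMap.mem_ker]
      change (I.map (algebraMap B₁ B₀) • ⊤ : Submodule B₀ M₀).mkQ (g x) = 0
      rw [Submodule.mkQ_apply, Submodule.Quotient.mk_eq_zero]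
      induction hx using Submodule.smul_induction_on' with
      | smul a ha m _ =>
        rw [map_smul, ← algebraMap_smul B₀ a]
        exact Submodule.smul_mem_smul (Ideal.mem_map_of_mem _ ha) trivial
      | add x _ y _ hx hy => rw [map_add]; exact add_mem hx hy)

theorem quotMap_mk (I : Ideal B₁) (m : M₁) : quotMap B₀ g I ((I • ⊤ : Submodule B₁ M₁).mkQ m) =
    (I.map (algebraMap B₁ B₀) • ⊤ : Submodule B₀ M₀).mkQ (g m) := rfl

theorem isBaseChange_quotMap (hg : IsBaseChange B₀ g) (I : Ideal B₁) : IsBaseChange B₀ (quotMap B₀ g I) := by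
  let N₁ : Submodule B₁ M₁ := I • ⊤
  let N₀ : Submodule B₀ M₀ := I.map (algebraMap B₁ B₀) • ⊤
  let f' : B₀ ⊗[B₁] N₁ →ₗ[B₀] M₀ := hg.equiv.toLinearMap ∘ₗ N₁.subtype.baseChange B₀
  have hf' : ∀ (b : B₀) (n : N₁), f' (b ⊗ₜ n) = b • g n := fun b n => by
    change hg.equiv (b ⊗ₜ n.1) = _
    rw [hg.equiv_tmul]
  have hspan : Submodule.span B₀ (Set.range g) = ⊤ := by
    rw [eq_top_iff]
    intro m _
    obtain ⟨x, rfl⟩ := hg.equiv.surjective m
    induction x with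
    | zero => simp
    | tmul b y =>
      rw [hg.equiv_tmul]
      exact Submodule.smul_mem _ _ (Submodule.subset_span ⟨y, rfl⟩)
    | add x y hx hy => rw [map_add]; exact add_mem (hx trivial) (hy trivial)
  have hrange : LinearMap.range f' = N₀ := by
    apply le_antisymm
    · rintro _ ⟨x, rfl⟩
      induction x with
      | zero => rw [map_zero]; exact zero_mem _
      | tmul b n =>
        rw [hf']
        refine Submodule.smul_mem _ _ ?_
        have h1 := quotMap_mk (B₀ := B₀) g I n.1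
        have h2 : (I • ⊤ : Submodule B₁ M₁).mkQ n.1 = 0 := (Submodule.Quotient.mk_eq_zero _).mpr n.2
        rw [h2, map_zero] at h1
        exact (Submodule.Quotient.mk_eq_zero _).mp h1.symm
      | add x y hx hy => rw [map_add]; exact add_mem hx hy
    · change I.map (algebraMap B₁ B₀) • ⊤ ≤ _
      rw [← hspan, Ideal.map, Submodule.span_smul_span, Submodule.span_le]
      intro z hz
      obtain ⟨_, ⟨a, ha, rfl⟩, _, ⟨m, rfl⟩, rfl⟩ := hz
      refine ⟨1 ⊗ₜ ⟨a • m, Submodule.smul_mem_smul ha trivial⟩, ?_⟩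
      rw [hf', one_smul, map_smul]
      exact (algebraMap_smul B₀ a (g m)).symm
  refine IsBaseChange.of_right_exact B₀ (h₁ := TensorProduct.mk B₁ B₀ N₁ 1) (h₂ := g)
    (h₃ := quotMap B₀ g I) (f := N₁.subtype) (g := N₁.mkQ) (f' := f') (g' := N₀.mkQ) ?_ ?_
    (TensorProduct.isBaseChange B₁ N₁ B₀) hg (LinearMap.exact_subtype_mkQ N₁) (Submodule.mkQ_surjective _) ?_
    (Submodule.mkQ_surjective _)
  · ext n
    change g n = f' (1 ⊗ₜ n)
    rw [hf', one_smul]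
  · rfl
  · rw [LinearMap.exact_iff, Submodule.ker_mkQ]
    exact hrange.symm

end

section

variable {A₀ B₀ M₀ A' : Type u} [CommRing A₀] [CommRing B₀] [Algebra A₀ B₀] [AddCommGroup M₀] [Module B₀ M₀]
  [Module A₀ M₀] [IsScalarTower A₀ B₀ M₀] [CommRing A'] [Algebra A₀ A']

/-- `(A' ⊗ M₀) ⧸ im (A' ⊗ N) ≃ A' ⊗ (M₀ ⧸ N)`. -/
noncomputable def tensorQuotEquiv (N : Submodule B₀ M₀) :
    ((A' ⊗[A₀] M₀) ⧸ LinearMap.range ((N.restrictScalars A₀).subtype.baseChange A')) ≃ₗ[A']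
      A' ⊗[A₀] (M₀ ⧸ N) :=
  Submodule.quotEquivOfEq _ _ (by
    have h1 : Function.Exact ((N.restrictScalars A₀).subtype) ((N.mkQ).restrictScalars A₀) := by
      intro x
      change N.mkQ x = 0 ↔ _
      rw [Submodule.mkQ_apply, Submodule.Quotient.mk_eq_zero]
      simp
    have h2 := lTensor_exact A' h1 N.mkQ_surjective
    ext x
    exact (h2 x).symm) ≪≫ₗ
  (((N.mkQ).restrictScalars A₀).baseChange A').quotKerEquivOfSurjective
    (LinearMap.lTensor_surjective A' N.mkQ_surjective)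

end

section

variable {R₀ A₀ B₁ B₀ M₁ M₀ : Type u} [CommRing R₀] [CommRing A₀] [CommRing B₁] [CommRing B₀]
  [Algebra R₀ A₀] [Algebra R₀ B₁] [Algebra R₀ B₀] [Algebra A₀ B₀] [Algebra B₁ B₀] [IsScalarTower R₀ A₀ B₀]
  [IsScalarTower R₀ B₁ B₀] [Algebra.IsPushout R₀ A₀ B₁ B₀]
  [AddCommGroup M₁] [Module B₁ M₁] [Module R₀ M₁] [IsScalarTower R₀ B₁ M₁]
  [AddCommGroup M₀] [Module B₀ M₀] [Module B₁ M₀] [IsScalarTower B₁ B₀ M₀]
  [Module A₀ M₀] [IsScalarTower A₀ B₀ M₀] (g : M₁ →ₗ[B₁] M₀)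

/-- `M₀ ⧸ J₀ ^ k M₀ ≃ A₀ ⊗ (M₁ ⧸ J₁ ^ k M₁)`. -/
noncomputable def modelEquiv (hg : IsBaseChange B₀ g) (J₁ : Ideal B₁) (k : ℕ) :
    (M₀ ⧸ ((J₁.map (algebraMap B₁ B₀)) ^ k • ⊤ : Submodule B₀ M₀)) ≃ₗ[A₀]
      A₀ ⊗[R₀] (M₁ ⧸ (J₁ ^ k • ⊤ : Submodule B₁ M₁)) :=
  ((Submodule.quotEquivOfEq _ _ (by rw [Ideal.map_pow])) ≪≫ₗ
    (isBaseChange_quotMap g hg (J₁ ^ k)).equiv.symm).restrictScalars A₀ ≪≫ₗ
    Algebra.IsPushout.cancelBaseChange R₀ A₀ B₁ B₀ (M₁ ⧸ (J₁ ^ k • ⊤ : Submodule B₁ M₁))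

end

end K121.Gr
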