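import Groth.Agent.EGA43.K121.GrRees
import Groth.Agent.EGA43.K121.GrModel
import Groth.Agent.Fdesc.DirColimLift
import Groth.Agent.FlatA.Model

/-!
# Flatness of all `M ⧸ J ^ k M` and directed colimits of rings
-/

set_option autoImplicit false
universe u

open TensorProduct

namespace K121.Gr

section

variable {ι : Type u} [Preorder ι] (G : ι → Type u) [∀ i, CommRing (G i)]
  (g : ∀ i j, i ≤ j → G i →+* G j) {A : Type u} [CommRing A] [∀ i, Algebra (G i) A]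

/-- A map from an algebra of finite type over a ring of finite type over `ℤ` to the colimit lifts to some stage,
compatibly with given maps from the base. -/
theorem exists_lift_over (h : FlatCA.IsDirectedColimitRing G g A) {R D : Type u} [CommRing R] [CommRing D]
    [Algebra R D] [Algebra.FiniteType ℤ R] [Algebra.FiniteType R D] (φ : D →+* A) (i₀ : ι) (ρ : R →+* G i₀)
    (hρ : (algebraMap (G i₀) A).comp ρ = φ.comp (algebraMap R D)) :
    ∃ (j : ι) (hj : i₀ ≤ j) (w : D →+* G j), (algebraMap (G j) A).comp w = φ ∧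
      w.comp (algebraMap R D) = (g i₀ j hj).comp ρ := by
  classical
  have hft : Algebra.FiniteType ℤ D := Algebra.FiniteType.trans (S := R) inferInstance inferInstance
  obtain ⟨j₁, w₁, hw₁⟩ := Groth.Agent.Fdesc.DirColimLift.exists_lift G g h φ
  have h' := h
  obtain ⟨hdir, hne, hid, hcomp, hcompat, hsurj, hzero⟩ := h'
  obtain ⟨j₂, h02, h12⟩ := hdir.directed i₀ j₁
  let w₂ : D →+* G j₂ := (g j₁ j₂ h12).comp w₁
  let ρ₂ : R →+* G j₂ := (g i₀ j₂ h02).comp ρ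
  obtain ⟨s, hs⟩ := (inferInstance : Algebra.FiniteType ℤ R).out
  obtain ⟨j₃, h23, hj₃⟩ := Groth.Agent.Fdesc.DirColimLift.exists_stage_zero G g h j₂
    (s.image fun r => w₂ (algebraMap R D r) - ρ₂ r) (by
      intro x hx
      obtain ⟨r, _, rfl⟩ := Finset.mem_image.mp hx
      have h1 : (algebraMap (G j₂) A) (w₂ (algebraMap R D r)) = φ (algebraMap R D r) := by
        rw [← hw₁]
        change ((algebraMap (G j₂) A).comp (g j₁ j₂ h12)) (w₁ (algebraMap R D r)) = _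
        rw [hcompat]
        rfl
      have h2 : (algebraMap (G j₂) A) (ρ₂ r) = φ (algebraMap R D r) := by
        change ((algebraMap (G j₂) A).comp (g i₀ j₂ h02)) (ρ r) = _
        rw [hcompat]
        exact RingHom.congr_fun hρ r
      rw [map_sub, h1, h2, sub_self])
  refine ⟨j₃, h02.trans h23, (g j₂ j₃ h23).comp w₂, ?_, ?_⟩
  · rw [← hw₁, ← RingHom.comp_assoc, hcompat, ← RingHom.comp_assoc, hcompat]
  · rw [← hcomp i₀ j₂ j₃ h02 h23, RingHom.comp_assoc]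
    let a : R →ₐ[ℤ] G j₃ := (((g j₂ j₃ h23).comp w₂).comp (algebraMap R D)).toIntAlgHom
    let b : R →ₐ[ℤ] G j₃ := ((g j₂ j₃ h23).comp ρ₂).toIntAlgHom
    have hab : a = b := by
      refine AlgHom.ext_of_adjoin_eq_top hs ?_
      intro r hr
      have := hj₃ _ (Finset.mem_image_of_mem _ hr)
      rw [map_sub, sub_eq_zero] at this
      exact this
    ext r
    exact AlgHom.congr_fun hab r

end

section

variable {R₀ A₀ B₁ B₀ M₁ M₀ : Type u} [CommRing R₀] [CommRing A₀] [CommRing B₁] [CommRing B₀]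
  [Algebra R₀ A₀] [Algebra R₀ B₁] [Algebra R₀ B₀] [Algebra A₀ B₀] [Algebra B₁ B₀] [IsScalarTower R₀ A₀ B₀]
  [IsScalarTower R₀ B₁ B₀] [Algebra.IsPushout R₀ A₀ B₁ B₀]
  [AddCommGroup M₁] [Module B₁ M₁] [Module R₀ M₁] [IsScalarTower R₀ B₁ M₁]
  [AddCommGroup M₀] [Module B₀ M₀] [Module B₁ M₀] [IsScalarTower B₁ B₀ M₀]
  [Module A₀ M₀] [IsScalarTower A₀ B₀ M₀] (gM : M₁ →ₗ[B₁] M₀)

/-- `A' ⊗ (M₀ ⧸ J₀ ^ k M₀) ≃ A' ⊗ (M₁ ⧸ J₁ ^ k M₁)`. -/
noncomputable def tensorModelEquiv (hg : IsBaseChange B₀ gM) (J₁ : Ideal B₁) (k : ℕ) (A' : Type u)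
    [CommRing A'] [Algebra A₀ A'] [Algebra R₀ A'] [IsScalarTower R₀ A₀ A'] :
    A' ⊗[A₀] (M₀ ⧸ ((J₁.map (algebraMap B₁ B₀)) ^ k • ⊤ : Submodule B₀ M₀)) ≃ₗ[A']
      A' ⊗[R₀] (M₁ ⧸ (J₁ ^ k • ⊤ : Submodule B₁ M₁)) :=
  (AlgebraTensorModule.congr (LinearEquiv.refl A' A') (modelEquiv (R₀ := R₀) (A₀ := A₀) gM hg J₁ k)).trans
    (AlgebraTensorModule.cancelBaseChange R₀ A₀ A' A' _)

theorem exists_stage_colim [Algebra.FiniteType ℤ R₀] [Algebra.FiniteType R₀ B₁] [Module.Finite B₁ M₁]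
    (hg : IsBaseChange B₀ gM) (J₁ : Ideal B₁)
    {ι : Type u} [Preorder ι] (G : ι → Type u) [∀ i, CommRing (G i)] [∀ i, Algebra A₀ (G i)]
    (g : ∀ i j, i ≤ j → G i →ₐ[A₀] G j)
    (A : Type u) [CommRing A] [Algebra A₀ A] [∀ i, Algebra (G i) A] [∀ i, IsScalarTower A₀ (G i) A]
    (hcolim : FlatCA.IsDirectedColimitRing G (fun i j h => (g i j h).toRingHom) A)
    (hfl : ∀ k : ℕ, Module.Flat A (A ⊗[A₀] (M₀ ⧸ ((J₁.map (algebraMap B₁ B₀)) ^ k • ⊤ : Submodule B₀ M₀)))) :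
    ∃ i : ι, ∀ k : ℕ, Module.Flat (G i)
      (G i ⊗[A₀] (M₀ ⧸ ((J₁.map (algebraMap B₁ B₀)) ^ k • ⊤ : Submodule B₀ M₀))) := by
  have hnoeth : IsNoetherianRing R₀ := Algebra.FiniteType.isNoetherianRing ℤ R₀
  let _ : Algebra R₀ A := ((algebraMap A₀ A).comp (algebraMap R₀ A₀)).toAlgebra
  have : IsScalarTower R₀ A₀ A := IsScalarTower.of_algebraMap_eq fun _ => rfl
  let _ : ∀ i, Algebra R₀ (G i) := fun i => ((algebraMap A₀ (G i)).comp (algebraMap R₀ A₀)).toAlgebra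
  have : ∀ i, IsScalarTower R₀ A₀ (G i) := fun i => IsScalarTower.of_algebraMap_eq fun _ => rfl
  have hA : ∀ k : ℕ, Module.Flat A (A ⊗[R₀] (M₁ ⧸ (J₁ ^ k • ⊤ : Submodule B₁ M₁))) := fun k => by
    have := hfl k
    exact Module.Flat.of_linearEquiv (tensorModelEquiv (R₀ := R₀) (A₀ := A₀) gM hg J₁ k A).symm
  obtain ⟨D, _, _, φ, hft, hD⟩ := exists_stage_adic R₀ J₁ M₁ A
  obtain ⟨i₀⟩ := hcolim.2.1
  obtain ⟨j, hj, w, -, hw⟩ := exists_lift_over G (fun i j h => (g i j h).toRingHom) hcolim (R := R₀) (D := D)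
    φ.toRingHom i₀ (algebraMap R₀ (G i₀)) (by
      ext r
      change algebraMap (G i₀) A (algebraMap A₀ (G i₀) (algebraMap R₀ A₀ r)) = φ (algebraMap R₀ D r)
      rw [← IsScalarTower.algebraMap_apply A₀ (G i₀) A, φ.commutes]
      rfl)
  let wa : D →ₐ[R₀] G j := ⟨w, fun r => by
    have h1 := RingHom.congr_fun hw r
    refine h1.trans ?_
    exact (g i₀ j hj).commutes (algebraMap R₀ A₀ r)⟩
  refine ⟨j, fun k => ?_⟩
  have h1 := flat_of_algHom wa (hD k)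
  exact Module.Flat.of_linearEquiv (tensorModelEquiv (R₀ := R₀) (A₀ := A₀) gM hg J₁ k (G j))

/-- Models with a finitely generated ideal. -/
theorem exists_model_ideal {R S M : Type u} [CommRing R] [CommRing S] [Algebra R S]
    [Algebra.FinitePresentation R S] [AddCommGroup M] [Module S M]
    [Module.FinitePresentation S M] (J : Ideal S) (hJ : J.FG) :
    ∃ (R₀ : Subalgebra ℤ R) (S₀ M₀ : Type u) (_ : CommRing S₀) (_ : Algebra R₀ S₀)
      (_ : Algebra S₀ S) (_ : IsScalarTower R₀ S₀ S) (_ : AddCommGroup M₀) (_ : Module S₀ M₀)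
      (_ : Module R₀ M₀) (_ : IsScalarTower R₀ S₀ M₀) (_ : Module S₀ M) (_ : IsScalarTower S₀ S M)
      (g : M₀ →ₗ[S₀] M) (J₀ : Ideal S₀),
      R₀.FG ∧ Algebra.IsPushout R₀ R S₀ S ∧
      Algebra.FinitePresentation R₀ S₀ ∧
      Module.FinitePresentation S₀ M₀ ∧ IsBaseChange S g ∧ J₀.map (algebraMap S₀ S) = J := by
  classical
  obtain ⟨s, hs⟩ := hJ
  obtain ⟨R₀, S₀, M₀, _, _, _, _, _, _, _, _, _, _, g, h1, -, h3, h4, h5, h6, h7⟩ :=
    Groth.Agent.FlatA.Model.exists_model (R := R) (S := S) (M := M) ∅ s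
  refine ⟨R₀, S₀, M₀, inferInstance, inferInstance, inferInstance, inferInstance, inferInstance, inferInstance,
    inferInstance, inferInstance, inferInstance, inferInstance, g,
    Ideal.span {x | algebraMap S₀ S x ∈ s}, h1, h3, h4, h6, h7, ?_⟩
  rw [Ideal.map_span, ← hs]
  congr 1
  ext t
  constructor
  · rintro ⟨x, hx, rfl⟩
    exact hx
  · intro ht
    obtain ⟨x, rfl⟩ := h5 t ht
    exact ⟨x, ht, rfl⟩

end

end K121.Gr
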