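import Mathlib.RingTheory.TensorProduct.DirectLimitFG
import Mathlib.RingTheory.Flat.Basic
import Groth.Agent.Divis.FlatExt

/-!
# Kernels of a linear map after base change

For `ι : G → Q` linear over `R` and an `R`-algebra `A'`, `K ι A'` is the kernel of `A' ⊗ G → A' ⊗ Q`.  For
`φ : A' → κ`, `Sp ι φ` is the `κ`-submodule of `κ ⊗ G` generated by the image of `K ι A'` and `Cov ι φ` says that
`K ι κ ≤ Sp ι φ`.
-/

set_option autoImplicit false
universe u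

open TensorProduct

namespace K121.Gr

variable {R : Type u} [CommRing R] {G Q C : Type u} [AddCommGroup G] [AddCommGroup Q] [AddCommGroup C]
  [Module R G] [Module R Q] [Module R C] (ι : G →ₗ[R] Q)

theorem mem_range_lTensor_ker {A' κ X Y Z : Type u} [CommRing A'] [AddCommGroup κ] [Module A' κ]
    [AddCommGroup X] [AddCommGroup Y] [AddCommGroup Z] [Module A' X] [Module A' Y] [Module A' Z]
    (f : X →ₗ[A'] Y) (g : Y →ₗ[A'] Z) (hfg : Function.Exact f g) (hg : Function.Surjective g)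
    [Module.Flat A' Z] {y : κ ⊗[A'] X} (hy : f.lTensor κ y = 0) :
    y ∈ LinearMap.range ((LinearMap.ker f).subtype.lTensor κ) := by
  have hexf : Function.Exact (LinearMap.range f).subtype g := by
    intro z
    rw [hfg z]
    constructor
    · rintro ⟨w, rfl⟩
      exact ⟨⟨f w, ⟨w, rfl⟩⟩, rfl⟩
    · rintro ⟨⟨_, w, rfl⟩, rfl⟩
      exact ⟨w, rfl⟩
  have hinj : Function.Injective ((LinearMap.range f).subtype.lTensor κ) :=
    Groth.Agent.Divis.FlatExt.lTensor_injective_of_flat (LinearMap.range f).injective_subtype hexf hg κ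
  have hx2 : (f.rangeRestrict).lTensor κ y = 0 := by
    apply hinj
    have h0 : (LinearMap.range f).subtype ∘ₗ f.rangeRestrict = f := by ext; rfl
    rw [map_zero, ← LinearMap.comp_apply, ← LinearMap.lTensor_comp, h0, hy]
  have hex2 : Function.Exact (LinearMap.ker f).subtype f.rangeRestrict := by
    intro z
    rw [← LinearMap.mem_ker, LinearMap.ker_rangeRestrict]
    simp
  exact (lTensor_exact κ hex2 f.surjective_rangeRestrict y).mp hx2

/-- The kernel of `ι` after base change to `A'`. -/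
def K (A' : Type u) [CommRing A'] [Algebra R A'] : Submodule A' (A' ⊗[R] G) :=
  LinearMap.ker (ι.baseChange A')

theorem mem_K {A' : Type u} [CommRing A'] [Algebra R A'] {x : A' ⊗[R] G} :
    x ∈ K ι A' ↔ ι.baseChange A' x = 0 := LinearMap.mem_ker

section

variable {A' A'' κ κ' : Type u} [CommRing A'] [Algebra R A'] [CommRing A''] [Algebra R A'']
  [CommRing κ] [Algebra R κ] [CommRing κ'] [Algebra R κ']

/-- The map on `G`-tensors induced by a map of algebras. -/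
abbrev tm (G : Type u) [AddCommGroup G] [Module R G] (φ : A' →ₐ[R] κ) : A' ⊗[R] G →ₗ[R] κ ⊗[R] G :=
  φ.toLinearMap.rTensor G

theorem tm_smul (φ : A' →ₐ[R] κ) (c : A') (x : A' ⊗[R] G) : tm G φ (c • x) = φ c • tm G φ x := by
  induction x with
  | zero => simp
  | tmul a g => simp [TensorProduct.smul_tmul', smul_eq_mul]
  | add x y hx hy => rw [smul_add, map_add, hx, hy, map_add, smul_add]

theorem tm_comp (φ : A' →ₐ[R] A'') (ψ : A'' →ₐ[R] κ) (x : A' ⊗[R] G) :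
    tm G (ψ.comp φ) x = tm G ψ (tm G φ x) := by
  rw [tm, AlgHom.comp_toLinearMap, LinearMap.rTensor_comp, LinearMap.comp_apply]

theorem tm_baseChange (φ : A' →ₐ[R] κ) (x : A' ⊗[R] G) :
    ι.baseChange κ (tm G φ x) = tm Q φ (ι.baseChange A' x) := by
  induction x with
  | zero => simp
  | tmul a g => simp
  | add x y hx hy => simp only [map_add, hx, hy]

theorem tm_mem_K (φ : A' →ₐ[R] κ) {x : A' ⊗[R] G} (hx : x ∈ K ι A') : tm G φ x ∈ K ι κ := by
  rw [mem_K] at hx ⊢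
  rw [tm_baseChange, hx, map_zero]

/-- The `κ`-span of the image of `K ι A'`. -/
def Sp (φ : A' →ₐ[R] κ) : Submodule κ (κ ⊗[R] G) :=
  Submodule.span κ (tm G φ '' (K ι A' : Set (A' ⊗[R] G)))

/-- `K ι κ` is generated by the image of `K ι A'`. -/
def Cov (φ : A' →ₐ[R] κ) : Prop := K ι κ ≤ Sp ι φ

theorem tm_mem_Sp (φ : A' →ₐ[R] κ) {x : A' ⊗[R] G} (hx : x ∈ K ι A') : tm G φ x ∈ Sp ι φ :=
  Submodule.subset_span ⟨x, hx, rfl⟩

theorem Sp_le_K (φ : A' →ₐ[R] κ) : Sp ι φ ≤ K ι κ := by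
  rw [Sp, Submodule.span_le]
  rintro _ ⟨x, hx, rfl⟩
  exact tm_mem_K ι φ hx

/-- Functoriality of `Sp` for commutative squares. -/
theorem tm_mem_Sp_of_square (φ : A' →ₐ[R] κ) (ψ : A'' →ₐ[R] κ') (a : A' →ₐ[R] A'') (b : κ →ₐ[R] κ')
    (h : b.comp φ = ψ.comp a) {x : κ ⊗[R] G} (hx : x ∈ Sp ι φ) : tm G b x ∈ Sp ι ψ := by
  induction hx using Submodule.span_induction with
  | mem x hx =>
    obtain ⟨y, hy, rfl⟩ := hx
    rw [← tm_comp, h, tm_comp]
    exact tm_mem_Sp ι ψ (tm_mem_K ι a hy)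
  | zero => simp
  | add x y _ _ hx hy => rw [map_add]; exact add_mem hx hy
  | smul c x _ hx => rw [tm_smul]; exact Submodule.smul_mem _ _ hx

theorem Sp_comp_le (φ : A' →ₐ[R] A'') (ψ : A'' →ₐ[R] κ) : Sp ι (ψ.comp φ) ≤ Sp ι ψ := by
  intro x hx
  have := tm_mem_Sp_of_square ι (ψ.comp φ) ψ φ (AlgHom.id R κ) (by ext; rfl) hx
  have h2 : tm G (AlgHom.id R κ) x = x := by
    rw [tm, AlgHom.toLinearMap_id, LinearMap.rTensor_id, LinearMap.id_apply]
  rwa [h2] at this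

theorem Cov.of_comp {ι : G →ₗ[R] Q} {φ : A' →ₐ[R] A''} {ψ : A'' →ₐ[R] κ} (h : Cov ι (ψ.comp φ)) :
    Cov ι ψ :=
  le_trans h (Sp_comp_le ι φ ψ)

/-- If `A' ⊗ coker ι` is flat over `A'` then `K ι κ` is generated by the image of `K ι A'`, for every `A' → κ`. -/
theorem cov_of_flat (g : Q →ₗ[R] C) (hex : Function.Exact ι g) (hg : Function.Surjective g)
    [Module.Flat A' (A' ⊗[R] C)] (φ : A' →ₐ[R] κ) : Cov ι φ := by
  let _ : Algebra A' κ := φ.toRingHom.toAlgebra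
  have : IsScalarTower R A' κ := IsScalarTower.of_algebraMap_eq fun r => (φ.commutes r).symm
  intro x hx
  rw [mem_K] at hx
  let eG : κ ⊗[A'] (A' ⊗[R] G) ≃ₗ[κ] κ ⊗[R] G := AlgebraTensorModule.cancelBaseChange R A' κ κ G
  let eQ : κ ⊗[A'] (A' ⊗[R] Q) ≃ₗ[κ] κ ⊗[R] Q := AlgebraTensorModule.cancelBaseChange R A' κ κ Q
  let f := ι.baseChange A'
  obtain ⟨y, rfl⟩ := eG.surjective x
  have hcomm : ∀ z, ι.baseChange κ (eG z) = eQ (f.lTensor κ z) := by
    intro z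
    induction z with
    | zero => simp
    | tmul c n =>
      induction n with
      | zero => simp
      | tmul a m =>
        simp only [eG, eQ, f, AlgebraTensorModule.cancelBaseChange_tmul, LinearMap.baseChange_tmul,
          LinearMap.lTensor_tmul]
      | add n n' hn hn' => simp only [TensorProduct.tmul_add, map_add, hn, hn']
    | add z z' hz hz' => simp only [map_add, hz, hz']
  rw [hcomm, LinearEquiv.map_eq_zero_iff] at hx
  have hexf : Function.Exact f (g.baseChange A') := by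
    intro z
    exact lTensor_exact A' hex hg z
  obtain ⟨w, rfl⟩ := mem_range_lTensor_ker f (g.baseChange A') hexf
    (show Function.Surjective (g.baseChange A') from LinearMap.lTensor_surjective A' hg) hx
  have heG : ∀ (c : κ) (n : A' ⊗[R] G), eG (c ⊗ₜ n) = c • tm G φ n := by
    intro c n
    induction n with
    | zero => simp
    | tmul a m =>
      simp only [eG, AlgebraTensorModule.cancelBaseChange_tmul, LinearMap.rTensor_tmul,
        TensorProduct.smul_tmul', AlgHom.toLinearMap_apply, smul_eq_mul, Algebra.smul_def]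
      rw [mul_comm]
      rfl
    | add n n' hn hn' => simp only [TensorProduct.tmul_add, map_add, hn, hn', smul_add]
  clear hx
  induction w with
  | zero => simp
  | tmul c n =>
    rw [LinearMap.lTensor_tmul, heG]
    exact Submodule.smul_mem _ _ (tm_mem_Sp ι φ n.2)
  | add w w' hw hw' => rw [map_add, map_add]; exact add_mem hw hw'

end

section Stage

variable {A D : Type u} [CommRing A] [Algebra R A] [CommRing D] [Algebra R D]

/-- `A → A ⊗ D`. -/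
abbrev inl (A D : Type u) [CommRing A] [Algebra R A] [CommRing D] [Algebra R D] : A →ₐ[R] A ⊗[R] D :=
  Algebra.TensorProduct.includeLeft

/-- `D → A ⊗ D`. -/
abbrev inr (A D : Type u) [CommRing A] [Algebra R A] [CommRing D] [Algebra R D] : D →ₐ[R] A ⊗[R] D :=
  Algebra.TensorProduct.includeRight

/-- `A₁ ⊗ D → A ⊗ D`. -/
abbrev jj (D : Type u) [CommRing D] [Algebra R D] (A₁ : Subalgebra R A) :
    A₁ ⊗[R] D →ₐ[R] A ⊗[R] D :=
  Algebra.TensorProduct.map A₁.val (AlgHom.id R D)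

/-- `A₁ ⊗ D → A₂ ⊗ D`. -/
abbrev ii (D : Type u) [CommRing D] [Algebra R D] {A₁ A₂ : Subalgebra R A} (h : A₁ ≤ A₂) :
    A₁ ⊗[R] D →ₐ[R] A₂ ⊗[R] D :=
  Algebra.TensorProduct.map (Subalgebra.inclusion h) (AlgHom.id R D)

theorem jj_comp_ii {A₁ A₂ : Subalgebra R A} (h : A₁ ≤ A₂) : (jj D A₂).comp (ii D h) = jj D A₁ := by
  ext <;> rfl

theorem ii_mem_Sp {A₁ A₂ : Subalgebra R A} (h : A₁ ≤ A₂) {x : (A₁ ⊗[R] D) ⊗[R] G}
    (hx : x ∈ Sp ι (inl (R := R) A₁ D)) :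
    tm G (ii D h) x ∈ Sp ι (inl (R := R) A₂ D) :=
  tm_mem_Sp_of_square ι _ _ (Subalgebra.inclusion h) (ii D h) (by ext; rfl) hx

theorem smul_aux {A₁ A₂ A₃ : Subalgebra R A} (h₁ : A₁ ≤ A₃) (h₂ : A₂ ≤ A₃) {x₁ : (A₁ ⊗[R] D) ⊗[R] G}
    (hx₁ : x₁ ∈ Sp ι (inl (R := R) A₁ D)) (c₁ : A₂ ⊗[R] D) :
    ∃ y : (A₃ ⊗[R] D) ⊗[R] G, y ∈ Sp ι (inl (R := R) A₃ D) ∧
      tm G (jj D A₃) y = jj D A₂ c₁ • tm G (jj D A₁) x₁ := by
  have h3 := ii_mem_Sp ι h₁ hx₁
  generalize hy : tm G (ii D h₁) x₁ = y at h3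
  generalize hc : ii D h₂ c₁ = c
  refine ⟨c • y, Submodule.smul_mem _ _ h3, ?_⟩
  rw [tm_smul, ← hy, ← hc, ← tm_comp, jj_comp_ii, ← AlgHom.comp_apply, jj_comp_ii]

theorem add_aux {A₁ A₂ A₃ : Subalgebra R A} (h₁ : A₁ ≤ A₃) (h₂ : A₂ ≤ A₃) {x₁ : (A₁ ⊗[R] D) ⊗[R] G}
    (hx₁ : x₁ ∈ Sp ι (inl (R := R) A₁ D)) {y₁ : (A₂ ⊗[R] D) ⊗[R] G}
    (hy₁ : y₁ ∈ Sp ι (inl (R := R) A₂ D)) :
    ∃ y : (A₃ ⊗[R] D) ⊗[R] G, y ∈ Sp ι (inl (R := R) A₃ D) ∧
      tm G (jj D A₃) y = tm G (jj D A₁) x₁ + tm G (jj D A₂) y₁ := by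
  have h3 := ii_mem_Sp ι h₁ hx₁
  have h4 := ii_mem_Sp ι h₂ hy₁
  refine ⟨_, add_mem h3 h4, ?_⟩
  rw [map_add, ← tm_comp, jj_comp_ii, ← tm_comp, jj_comp_ii]

theorem exists_stage_mem_Sp {x : (A ⊗[R] D) ⊗[R] G}
    (hx : x ∈ Sp ι (inl (R := R) A D)) :
    ∃ (A₁ : Subalgebra R A) (_ : A₁.FG) (x₁ : (A₁ ⊗[R] D) ⊗[R] G),
      x₁ ∈ Sp ι (inl (R := R) A₁ D) ∧ tm G (jj D A₁) x₁ = x := by
  induction hx using Submodule.span_induction with
  | mem x hx =>
    obtain ⟨z, hz, rfl⟩ := hx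
    obtain ⟨A₁, hA₁, z₁, hz₁, rfl⟩ := Submodule.exists_fg_of_baseChange_eq_zero ι (t := z) hz
    refine ⟨A₁, hA₁, tm G (inl (R := R) A₁ D) z₁, tm_mem_Sp ι _ hz₁, ?_⟩
    rw [← tm_comp]
    change _ = tm G (inl (R := R) A D) (tm G A₁.val z₁)
    rw [← tm_comp]
    congr 1
  | zero => exact ⟨⊥, Subalgebra.fg_bot, 0, zero_mem _, by simp⟩
  | add x y _ _ hx hy =>
    obtain ⟨A₁, hA₁, x₁, hx₁, rfl⟩ := hx
    obtain ⟨A₂, hA₂, y₁, hy₁, rfl⟩ := hy
    obtain ⟨A₃, hA₃, h₁, h₂⟩ : ∃ A₃ : Subalgebra R A, A₃.FG ∧ A₁ ≤ A₃ ∧ A₂ ≤ A₃ :=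
      ⟨A₁ ⊔ A₂, hA₁.sup hA₂, le_sup_left, le_sup_right⟩
    obtain ⟨z, hz, hz'⟩ := add_aux ι h₁ h₂ hx₁ hy₁
    exact ⟨A₃, hA₃, z, hz, hz'⟩
  | smul c x _ hx =>
    obtain ⟨A₁, hA₁, x₁, hx₁, rfl⟩ := hx
    obtain ⟨A₂, hA₂, c₁, hc₁⟩ := TensorProduct.Algebra.exists_of_fg c
    obtain ⟨A₃, hA₃, h₁, h₂⟩ : ∃ A₃ : Subalgebra R A, A₃.FG ∧ A₁ ≤ A₃ ∧ A₂ ≤ A₃ :=
      ⟨A₁ ⊔ A₂, hA₁.sup hA₂, le_sup_left, le_sup_right⟩
    obtain ⟨y, hy, hy'⟩ := smul_aux ι h₁ h₂ hx₁ c₁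
    refine ⟨A₃, hA₃, y, hy, ?_⟩
    rw [hy', ← hc₁]
    rfl

/-- If `A ⊗ coker ι` is flat, every element of the kernel over `D` is, over `A₁ ⊗ D` for some finitely generated
`A₁ ⊆ A`, generated by the kernel over `A₁`. -/
theorem exists_stage (g : Q →ₗ[R] C) (hex : Function.Exact ι g) (hg : Function.Surjective g)
    [Module.Flat A (A ⊗[R] C)] (n : D ⊗[R] G) (hn : n ∈ K ι D) :
    ∃ (A₁ : Subalgebra R A), A₁.FG ∧ ∀ (κ : Type u) [CommRing κ] [Algebra R κ] (β : A₁ →ₐ[R] κ)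
      (δ : D →ₐ[R] κ), tm G δ n ∈ Sp ι β := by
  have h1 := cov_of_flat ι g hex hg (inl (R := R) A D)
    (tm_mem_K ι (inr (R := R) A D) hn)
  obtain ⟨A₁, hA₁, x₁, hx₁, hx⟩ := exists_stage_mem_Sp ι h1
  have hx2 : tm G (jj D A₁) x₁ = tm G (jj D A₁)
      (tm G (inr (R := R) A₁ D) n) := by
    rw [hx, ← tm_comp]
    congr 1
  have hassoc : ∀ z : (A₁ ⊗[R] D) ⊗[R] G, A₁.val.toLinearMap.rTensor (D ⊗[R] G)
      (TensorProduct.assoc R A₁ D G z) = TensorProduct.assoc R A D G (tm G (jj D A₁) z) := by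
    intro z
    induction z with
    | zero => simp
    | tmul c n =>
      induction c with
      | zero => simp
      | tmul a m => simp
      | add n n' hn hn' => simp only [TensorProduct.add_tmul, map_add, hn, hn']
    | add z z' hz hz' => simp only [map_add, hz, hz']
  obtain ⟨B, hAB, hB, hBeq⟩ := TensorProduct.Algebra.eq_of_fg_of_subtype_eq hA₁
    (t := TensorProduct.assoc R A₁ D G x₁)
    (t' := TensorProduct.assoc R A₁ D G (tm G (inr (R := R) A₁ D) n))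
    (by rw [hassoc, hassoc, hx2])
  have hassoc2 : ∀ z : (A₁ ⊗[R] D) ⊗[R] G, (Subalgebra.inclusion hAB).toLinearMap.rTensor (D ⊗[R] G)
      (TensorProduct.assoc R A₁ D G z) = TensorProduct.assoc R B D G (tm G (ii D hAB) z) := by
    intro z
    induction z with
    | zero => simp
    | tmul c n =>
      induction c with
      | zero => simp
      | tmul a m => simp
      | add n n' hn hn' => simp only [TensorProduct.add_tmul, map_add, hn, hn']
    | add z z' hz hz' => simp only [map_add, hz, hz']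
  rw [hassoc2, hassoc2, (TensorProduct.assoc R B D G).injective.eq_iff, ← tm_comp] at hBeq
  refine ⟨B, hB, fun κ _ _ β δ => ?_⟩
  have h2 := ii_mem_Sp ι hAB hx₁
  rw [hBeq] at h2
  have h3 := tm_mem_Sp_of_square ι (inl (R := R) B D) β
    (AlgHom.id R B) (Algebra.TensorProduct.lift β δ fun _ _ => Commute.all _ _) (by ext; simp) h2
  rw [← tm_comp] at h3
  convert h3 using 2
  congr 1
  ext d
  simp

end Stage

end K121.Gr
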