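import Groth.Agent.EGA43.K121.GrCover
import Groth.Agent.EGA43.K120.KerFlat
import Mathlib.LinearAlgebra.TensorProduct.Quotient
import Mathlib.RingTheory.Nakayama

/-!
# Generation of a kernel can be tested on fibres
-/

set_option autoImplicit false
universe u

open TensorProduct

namespace K121.Gr

theorem ker_le_of_fibres {A S X Y Z : Type u} [CommRing A] [CommRing S] [Algebra A S]
    [Algebra.FinitePresentation A S] [AddCommGroup X] [AddCommGroup Y] [AddCommGroup Z]
    [Module S X] [Module S Y] [Module S Z] [Module A X] [Module A Y] [Module A Z]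
    [IsScalarTower A S X] [IsScalarTower A S Y] [IsScalarTower A S Z]
    [Module.Finite S X] [Module.FinitePresentation S Y] [Module.FinitePresentation S Z]
    [Module.Flat A Y] [Module.Flat A Z] (f : X →ₗ[S] Y) (g : Y →ₗ[S] Z) (hfg : Function.Exact f g)
    (hg : Function.Surjective g) (N : Submodule S X) (hN : N ≤ LinearMap.ker f)
    (h : ∀ (q : Ideal S) [q.IsMaximal] (t : X), f t = 0 →
      (1 : S ⧸ q) ⊗ₜ[A] t ∈ LinearMap.range ((N.restrictScalars A).subtype.lTensor (S ⧸ q))) :
    LinearMap.ker f ≤ N := by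
  have hFG : (LinearMap.ker f).FG := K120.KerFlat.fg_ker_of_flat_coker (R := A) f g hg hfg
  -- flatness of the image
  let fA := f.restrictScalars A
  let gA := g.restrictScalars A
  have hfgA : Function.Exact fA gA := hfg
  have hflat : Module.Flat A (LinearMap.range fA) := by
    have h1 : Function.Exact (LinearMap.range fA).subtype gA := by
      intro z
      rw [hfgA z]
      simp
    exact Groth.Agent.Divis.FlatExt.flat_of_exact_left (LinearMap.range fA).injective_subtype h1 hg
  let iA : LinearMap.ker f →ₗ[A] X := (LinearMap.ker f).subtype.restrictScalars A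
  have hinj : ∀ (κ : Type u) [AddCommGroup κ] [Module A κ], Function.Injective (iA.lTensor κ) := by
    intro κ _ _
    have hex2 : Function.Exact iA fA.rangeRestrict := by
      intro z
      rw [← LinearMap.mem_ker, LinearMap.ker_rangeRestrict]
      constructor
      · intro hz
        exact ⟨⟨z, hz⟩, rfl⟩
      · rintro ⟨z, rfl⟩
        exact z.2
    exact Groth.Agent.Divis.FlatExt.lTensor_injective_of_flat (show Function.Injective iA from
      (LinearMap.ker f).injective_subtype) hex2 fA.surjective_rangeRestrict κ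
  let N' : Submodule S (LinearMap.ker f) := N.comap (LinearMap.ker f).subtype
  let T := LinearMap.ker f ⧸ N'
  have hfinK : Module.Finite S (LinearMap.ker f) := Module.Finite.iff_fg.mpr hFG
  have hT : Module.Finite S T := inferInstance
  have key : ∀ (q : Ideal S) [q.IsMaximal], (⊤ : Submodule S T) ≤ q • (⊤ : Submodule S T) := by
    intro q _ x _
    obtain ⟨t, rfl⟩ := N'.mkQ_surjective x
    let θ : (S ⧸ q) ⊗[A] LinearMap.ker f →ₗ[A] (S ⧸ q) ⊗[S] T :=
      TensorProduct.lift (LinearMap.mk₂ A (fun c (t : LinearMap.ker f) => c ⊗ₜ[S] N'.mkQ t)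
        (fun c c' t => TensorProduct.add_tmul _ _ _)
        (fun a c t => by rw [TensorProduct.smul_tmul'])
        (fun c t t' => by rw [map_add, TensorProduct.tmul_add])
        (fun a c t => by
          rw [← algebraMap_smul S a t, map_smul, ← TensorProduct.smul_tmul, algebraMap_smul,
            TensorProduct.smul_tmul']))
    have hθ : ∀ c (t : LinearMap.ker f), θ (c ⊗ₜ[A] t) = c ⊗ₜ[S] N'.mkQ t := fun c t => rfl
    obtain ⟨w, hw⟩ := h q t.1 (LinearMap.mem_ker.mp t.2)
    let j : N.restrictScalars A →ₗ[A] LinearMap.ker f :=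
      (Submodule.inclusion hN).restrictScalars A
    have hw2 : (1 : S ⧸ q) ⊗ₜ[A] t = j.lTensor (S ⧸ q) w := by
      apply hinj
      rw [← LinearMap.comp_apply, ← LinearMap.lTensor_comp]
      exact hw.symm
    have hz : ∀ w, θ (j.lTensor (S ⧸ q) w) = 0 := by
      intro w
      induction w with
      | zero => simp
      | tmul c n =>
        rw [LinearMap.lTensor_tmul]
        change c ⊗ₜ[S] N'.mkQ ⟨n.1, _⟩ = 0
        have : N'.mkQ ⟨n.1, hN n.2⟩ = 0 := (Submodule.Quotient.mk_eq_zero _).mpr n.2
        rw [this, TensorProduct.tmul_zero]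
      | add x y hx hy => rw [map_add, map_add, hx, hy, add_zero]
    have h1 : (1 : S ⧸ q) ⊗ₜ[S] N'.mkQ t = 0 := by
      rw [← hθ]
      exact (congrArg θ hw2).trans (hz w)
    have h2 := congrArg (TensorProduct.quotTensorEquivQuotSMul T q) h1
    rw [map_zero] at h2
    have h3 : TensorProduct.quotTensorEquivQuotSMul T q ((Ideal.Quotient.mk q (1 : S)) ⊗ₜ[S] N'.mkQ t) =
        Submodule.Quotient.mk ((1 : S) • N'.mkQ t) := TensorProduct.quotTensorEquivQuotSMul_mk_tmul q 1 _
    rw [map_one, one_smul] at h3
    rw [h3] at h2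
    exact (Submodule.Quotient.mk_eq_zero _).mp h2
  have hann : Module.annihilator S T = ⊤ := by
    by_contra hne
    obtain ⟨q, hq, hle⟩ := Ideal.exists_le_maximal _ hne
    obtain ⟨r, hr, hr'⟩ := Submodule.exists_sub_one_mem_and_smul_eq_zero_of_fg_of_le_smul q
      (⊤ : Submodule S T) hT.fg_top (key q)
    have h1 : r ∈ q := hle (Module.mem_annihilator.mpr fun m => hr' m trivial)
    apply hq.ne_top
    rw [Ideal.eq_top_iff_one]
    have := q.sub_mem h1 hr
    simpa using this
  intro t ht
  have h1 : (1 : S) ∈ Module.annihilator S T := by rw [hann]; trivial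
  have h2 := Module.mem_annihilator.mp h1 (N'.mkQ ⟨t, ht⟩)
  rw [one_smul] at h2
  exact (Submodule.Quotient.mk_eq_zero N').mp h2

end K121.Gr
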