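import Groth.Agent.EGA43.K121.GrStratum
import Groth.Agent.EGA43.K121.GrFibre
import Mathlib.RingTheory.Finiteness.ModuleFinitePresentation

/-!
# Generation of a kernel: from fields to an arbitrary algebra, finitely presented case
-/

set_option autoImplicit false
universe u

open TensorProduct

namespace K121.Gr

attribute [local instance] Algebra.TensorProduct.rightAlgebra

theorem cov_of_fields {R B X Y Z : Type u} [CommRing R] [CommRing B] [Algebra R B]
    [Algebra.FinitePresentation R B] [AddCommGroup X] [AddCommGroup Y] [AddCommGroup Z]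
    [Module B X] [Module B Y] [Module B Z] [Module R X] [Module R Y] [Module R Z]
    [IsScalarTower R B X] [IsScalarTower R B Y] [IsScalarTower R B Z]
    [Module.Finite B X] [Module.FinitePresentation B Y] [Module.FinitePresentation B Z]
    (f : X →ₗ[B] Y) (g : Y →ₗ[B] Z) (hfg : Function.Exact f g) (hg : Function.Surjective g)
    {A₁ A : Type u} [CommRing A₁] [Algebra R A₁] [CommRing A] [Algebra R A]
    [Module.Flat A (A ⊗[R] Y)] [Module.Flat A (A ⊗[R] Z)] (α : A₁ →ₐ[R] A)
    (h : ∀ (κ : Type u) [Field κ] [Algebra R κ] (β : A₁ →ₐ[R] κ), Cov (f.restrictScalars R) β) :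
    Cov (f.restrictScalars R) α := by
  let S := A ⊗[R] B
  have hFPY : Module.FinitePresentation S (S ⊗[B] Y) := inferInstance
  have hFPZ : Module.FinitePresentation S (S ⊗[B] Z) := inferInstance
  have hflY : Module.Flat A (S ⊗[B] Y) := Module.Flat.of_linearEquiv (eqv (R := R) B A Y).symm
  have hflZ : Module.Flat A (S ⊗[B] Z) := Module.Flat.of_linearEquiv (eqv (R := R) B A Z).symm
  have hex : Function.Exact (f.baseChange S) (g.baseChange S) := by
    intro z
    exact lTensor_exact S hfg hg z
  have hgs : Function.Surjective (g.baseChange S) := LinearMap.lTensor_surjective S hg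
  let N : Submodule S (S ⊗[B] X) :=
    { carrier := {z | (eqv (R := R) B A X).symm z ∈ Sp (f.restrictScalars R) α}
      add_mem' := fun {a b} ha hb => by
        change (eqv (R := R) B A X).symm (a + b) ∈ Sp (f.restrictScalars R) α
        rw [map_add]
        exact add_mem ha hb
      zero_mem' := by
        change (eqv (R := R) B A X).symm 0 ∈ Sp (f.restrictScalars R) α
        rw [map_zero]
        exact zero_mem _
      smul_mem' := fun c w hw => by
        change (eqv (R := R) B A X).symm (c • w) ∈ Sp (f.restrictScalars R) α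
        have h5 := eqv_mem (R := R) A (W := Sp (f.restrictScalars R) α)
          (fun s w hw => act_mem_Sp f α s hw) c _ hw
        rwa [LinearEquiv.apply_symm_apply] at h5 }
  have hN : N ≤ LinearMap.ker (f.baseChange S) := by
    intro z hz
    have h1 : (eqv (R := R) B A X).symm z ∈ K (f.restrictScalars R) A := Sp_le_K _ _ hz
    rw [mem_K] at h1
    have h2 := eqv_baseChange (R := R) f A ((eqv (R := R) B A X).symm z)
    rw [LinearEquiv.apply_symm_apply, h1, map_zero] at h2
    exact h2
  have key := ker_le_of_fibres (A := A) (S := S) (X := S ⊗[B] X) (Y := S ⊗[B] Y) (Z := S ⊗[B] Z)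
    (f.baseChange S) (g.baseChange S) hex hgs N hN ?_
  · intro x hx
    rw [mem_K] at hx
    have h2 := eqv_baseChange (R := R) f A x
    rw [hx, map_zero] at h2
    have h3 := key (LinearMap.mem_ker.mpr h2)
    change (eqv (R := R) B A X).symm (eqv (R := R) B A X x) ∈ Sp (f.restrictScalars R) α at h3
    rwa [LinearEquiv.symm_apply_apply] at h3
  · intro q _ t ht
    let _ : Field (S ⧸ q) := Ideal.Quotient.field q
    let κ := S ⧸ q
    let γ : A →ₐ[R] κ := IsScalarTower.toAlgHom R A κ
    obtain ⟨x, rfl⟩ := (eqv (R := R) B A X).surjective t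
    let E : κ ⊗[A] (S ⊗[B] X) ≃ₗ[κ] κ ⊗[R] X :=
      (AlgebraTensorModule.congr (LinearEquiv.refl κ κ) (eqv (R := R) B A X).symm).trans
        (AlgebraTensorModule.cancelBaseChange R A κ κ X)
    have hE : ∀ (c : κ) (x : A ⊗[R] X), E (c ⊗ₜ (eqv (R := R) B A X x)) = c • tm X γ x := by
      intro c x
      simp only [E, LinearEquiv.trans_apply, AlgebraTensorModule.congr_tmul, LinearEquiv.refl_apply,
        LinearEquiv.symm_apply_apply]
      induction x with
      | zero => simp
      | tmul a m =>
        simp only [AlgebraTensorModule.cancelBaseChange_tmul, LinearMap.rTensor_tmul,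
          TensorProduct.smul_tmul', smul_eq_mul, Algebra.smul_def]
        rw [mul_comm]
        rfl
      | add n n' hn hn' => simp only [TensorProduct.tmul_add, map_add, hn, hn', smul_add]
    have hx : x ∈ K (f.restrictScalars R) A := by
      rw [mem_K]
      have h2 := eqv_baseChange (R := R) f A x
      rw [ht] at h2
      exact (LinearEquiv.map_eq_zero_iff _).mp h2.symm
    have hx2 : tm X γ x ∈ Sp (f.restrictScalars R) (γ.comp α) := h κ (γ.comp α) (tm_mem_K _ γ hx)
    let j : N.restrictScalars A →ₗ[A] S ⊗[B] X := (N.restrictScalars A).subtype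
    have claim : ∀ w ∈ Sp (f.restrictScalars R) (γ.comp α),
        ∃ v : κ ⊗[A] (N.restrictScalars A), E (j.baseChange κ v) = w := by
      intro w hw
      induction hw using Submodule.span_induction with
      | mem w hw =>
        obtain ⟨z, hz, rfl⟩ := hw
        have hmem : eqv (R := R) B A X (tm X α z) ∈ N := by
          change (eqv (R := R) B A X).symm (eqv (R := R) B A X (tm X α z)) ∈ Sp (f.restrictScalars R) α
          rw [LinearEquiv.symm_apply_apply]
          exact tm_mem_Sp _ α hz
        refine ⟨1 ⊗ₜ ⟨_, hmem⟩, ?_⟩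
        rw [LinearMap.baseChange_tmul, tm_comp]
        exact (hE 1 _).trans (one_smul _ _)
      | zero => exact ⟨0, by simp⟩
      | add w w' _ _ hw hw' =>
        obtain ⟨v, rfl⟩ := hw
        obtain ⟨v', rfl⟩ := hw'
        exact ⟨v + v', by simp only [map_add]⟩
      | smul c w _ hw =>
        obtain ⟨v, rfl⟩ := hw
        exact ⟨c • v, by simp only [map_smul]⟩
    obtain ⟨v, hv⟩ := claim _ hx2
    refine ⟨v, ?_⟩
    apply E.injective
    rw [hE, one_smul, ← hv]
    rfl

end K121.Gr
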