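import Groth.Agent.EGA43.K121.GrStage
import Mathlib.LinearAlgebra.DirectSum.TensorProduct

/-!
# Descent of flatness to a finitely generated stage, for graded objects
-/

set_option autoImplicit false
universe u

open TensorProduct DirectSum

namespace K121.Gr

section Sp

variable {R : Type u} [CommRing R] {G Q X Y : Type u} [AddCommGroup G] [AddCommGroup Q] [AddCommGroup X]
  [AddCommGroup Y] [Module R G] [Module R Q] [Module R X] [Module R Y] (ι : G →ₗ[R] Q) (f : X →ₗ[R] Y)
  {A' κ : Type u} [CommRing A'] [Algebra R A'] [CommRing κ] [Algebra R κ]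

theorem baseChange_mem_K (u : G →ₗ[R] X) (v : Q →ₗ[R] Y) (h : v ∘ₗ ι = f ∘ₗ u) {x : κ ⊗[R] G}
    (hx : x ∈ K ι κ) : u.baseChange κ x ∈ K f κ := by
  rw [mem_K] at hx ⊢
  rw [← LinearMap.comp_apply, ← LinearMap.baseChange_comp, ← h, LinearMap.baseChange_comp,
    LinearMap.comp_apply, hx, map_zero]

theorem tm_baseChange' (u : G →ₗ[R] X) (φ : A' →ₐ[R] κ) (x : A' ⊗[R] G) :
    u.baseChange κ (tm G φ x) = tm X φ (u.baseChange A' x) := tm_baseChange u φ x

theorem baseChange_mem_Sp (u : G →ₗ[R] X) (v : Q →ₗ[R] Y) (h : v ∘ₗ ι = f ∘ₗ u) (φ : A' →ₐ[R] κ)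
    {x : κ ⊗[R] G} (hx : x ∈ Sp ι φ) : u.baseChange κ x ∈ Sp f φ := by
  induction hx using Submodule.span_induction with
  | mem x hx =>
    obtain ⟨y, hy, rfl⟩ := hx
    rw [tm_baseChange']
    exact tm_mem_Sp _ φ (baseChange_mem_K ι f u v h hy)
  | zero => simp
  | add x y _ _ hx hy => rw [map_add]; exact add_mem hx hy
  | smul c x _ hx => rw [map_smul]; exact Submodule.smul_mem _ _ hx

/-- `Cov` passes to retracts. -/
theorem Cov.of_retract {ι : G →ₗ[R] Q} (u : G →ₗ[R] X) (v : Q →ₗ[R] Y) (h : v ∘ₗ ι = f ∘ₗ u)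
    (u' : X →ₗ[R] G) (v' : Y →ₗ[R] Q) (h' : v' ∘ₗ f = ι ∘ₗ u') (huu' : u ∘ₗ u' = LinearMap.id)
    {φ : A' →ₐ[R] κ} (hc : Cov ι φ) : Cov f φ := by
  intro x hx
  have h1 := hc (baseChange_mem_K f ι u' v' h' hx)
  have h2 := baseChange_mem_Sp ι f u v h φ h1
  rwa [← LinearMap.comp_apply, ← LinearMap.baseChange_comp, huu', LinearMap.baseChange_id,
    LinearMap.id_apply] at h2

end Sp

section Graded

variable {R : Type u} [CommRing R] {X Y : ℕ → Type u} [∀ k, AddCommGroup (X k)] [∀ k, AddCommGroup (Y k)]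
  [∀ k, Module R (X k)] [∀ k, Module R (Y k)] (f : ∀ k, X k →ₗ[R] Y k)

theorem comp_component (k : ℕ) : DirectSum.component R ℕ Y k ∘ₗ DirectSum.lmap f =
    f k ∘ₗ DirectSum.component R ℕ X k := rfl

theorem lof_comp (k : ℕ) : DirectSum.lof R ℕ Y k ∘ₗ f k = DirectSum.lmap f ∘ₗ DirectSum.lof R ℕ X k := by
  ext x
  simp

theorem component_comp_lof (k : ℕ) : DirectSum.component R ℕ X k ∘ₗ DirectSum.lof R ℕ X k = LinearMap.id := by
  ext x
  simp

section

variable {A' κ : Type u} [CommRing A'] [Algebra R A'] [CommRing κ] [Algebra R κ]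

theorem cov_component {φ : A' →ₐ[R] κ} (hc : Cov (DirectSum.lmap f) φ) (k : ℕ) : Cov (f k) φ :=
  Cov.of_retract (f k) (DirectSum.component R ℕ X k) (DirectSum.component R ℕ Y k) (comp_component f k)
    (DirectSum.lof R ℕ X k) (DirectSum.lof R ℕ Y k) (lof_comp f k) (component_comp_lof k) hc

theorem directSumRight_apply_component (x : κ ⊗[R] ⨁ k, X k) (k : ℕ) :
    TensorProduct.directSumRight R κ κ X x k = (DirectSum.component R ℕ X k).baseChange κ x := by
  induction x with
  | zero => simp
  | tmul a m => simp; rfl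
  | add x y hx hy => rw [map_add, DirectSum.add_apply, hx, hy, map_add]

theorem directSumRight_symm_lof (k : ℕ) (y : κ ⊗[R] X k) :
    (TensorProduct.directSumRight R κ κ X).symm (DirectSum.lof κ ℕ (fun k => κ ⊗[R] X k) k y) =
      (DirectSum.lof R ℕ X k).baseChange κ y := by
  induction y with
  | zero => simp
  | tmul a m => rw [TensorProduct.directSumRight_symm_lof_tmul, LinearMap.baseChange_tmul]
  | add x y hx hy => simp only [map_add, hx, hy]

theorem cov_lmap {φ : A' →ₐ[R] κ} (hc : ∀ k, Cov (f k) φ) : Cov (DirectSum.lmap f) φ := by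
  classical
  intro x hx
  have h1 : ∀ k, TensorProduct.directSumRight R κ κ X x k ∈ K (f k) κ := fun k => by
    rw [directSumRight_apply_component]
    exact baseChange_mem_K _ _ _ (DirectSum.component R ℕ Y k) (comp_component f k) hx
  have h2 : x = (TensorProduct.directSumRight R κ κ X).symm
      (TensorProduct.directSumRight R κ κ X x) := (LinearEquiv.symm_apply_apply _ _).symm
  rw [h2, ← DirectSum.sum_support_of (TensorProduct.directSumRight R κ κ X x), map_sum]
  refine Submodule.sum_mem _ fun k _ => ?_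
  have h3 := directSumRight_symm_lof (κ := κ) k (TensorProduct.directSumRight R κ κ X x k)
  rw [DirectSum.lof_eq_of] at h3
  rw [h3]
  exact baseChange_mem_Sp (f k) (DirectSum.lmap f) (DirectSum.lof R ℕ X k) (DirectSum.lof R ℕ Y k)
    (lof_comp f k) φ (hc k (h1 k))

end

/-- Flatness of the image of a base changed direct sum of maps is inherited by the summands. -/
theorem flat_range_component (D : Type u) [CommRing D] [Algebra R D]
    [Module.Flat D (LinearMap.range ((DirectSum.lmap f).baseChange D))] (k : ℕ) :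
    Module.Flat D (LinearMap.range ((f k).baseChange D)) := by
  let a : D ⊗[R] X k →ₗ[D] D ⊗[R] ⨁ k, X k := (DirectSum.lof R ℕ X k).baseChange D
  let a' : D ⊗[R] (⨁ k, X k) →ₗ[D] D ⊗[R] X k := (DirectSum.component R ℕ X k).baseChange D
  let b : D ⊗[R] Y k →ₗ[D] D ⊗[R] ⨁ k, Y k := (DirectSum.lof R ℕ Y k).baseChange D
  let b' : D ⊗[R] (⨁ k, Y k) →ₗ[D] D ⊗[R] Y k := (DirectSum.component R ℕ Y k).baseChange D
  have hb : ∀ x, b ((f k).baseChange D x) = (DirectSum.lmap f).baseChange D (a x) := fun x => by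
    rw [← LinearMap.comp_apply, ← LinearMap.comp_apply, ← LinearMap.baseChange_comp, lof_comp f k,
      LinearMap.baseChange_comp]
  have hb' : ∀ x, b' ((DirectSum.lmap f).baseChange D x) = (f k).baseChange D (a' x) := fun x => by
    rw [← LinearMap.comp_apply, ← LinearMap.comp_apply, ← LinearMap.baseChange_comp, comp_component f k,
      LinearMap.baseChange_comp]
  have hbb : ∀ x, b' (b x) = x := fun x => by
    rw [← LinearMap.comp_apply, ← LinearMap.baseChange_comp, component_comp_lof, LinearMap.baseChange_id,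
      LinearMap.id_apply]
  let i : LinearMap.range ((f k).baseChange D) →ₗ[D] LinearMap.range ((DirectSum.lmap f).baseChange D) :=
    b.restrict (by
      rintro _ ⟨x, rfl⟩
      exact ⟨a x, (hb x).symm⟩)
  let p : LinearMap.range ((DirectSum.lmap f).baseChange D) →ₗ[D] LinearMap.range ((f k).baseChange D) :=
    b'.restrict (by
      rintro _ ⟨x, rfl⟩
      exact ⟨a' x, (hb' x).symm⟩)
  refine Module.Flat.of_retract i p ?_
  ext x : 1
  exact Subtype.ext (hbb x.1)

end Graded

section Main

variable {R : Type u} [CommRing R]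

theorem flat_tensor_directSum {Z : ℕ → Type u} [∀ k, AddCommGroup (Z k)] [∀ k, Module R (Z k)]
    (D : Type u) [CommRing D] [Algebra R D] :
    Module.Flat D (D ⊗[R] ⨁ k, Z k) ↔ ∀ k, Module.Flat D (D ⊗[R] Z k) := by
  rw [← Module.Flat.directSum_iff]
  exact ⟨fun h => Module.Flat.of_linearEquiv (TensorProduct.directSumRight R D D Z).symm,
    fun h => Module.Flat.of_linearEquiv (TensorProduct.directSumRight R D D Z)⟩

/-- Flatness of the graded pieces implies flatness of the quotients. -/
theorem flat_quotients {X Z : ℕ → Type u} [∀ k, AddCommGroup (X k)] [∀ k, AddCommGroup (Z k)]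
    [∀ k, Module R (X k)] [∀ k, Module R (Z k)] (f : ∀ k, X k →ₗ[R] Z (k + 1))
    (h : ∀ k, Z (k + 1) →ₗ[R] Z k) (hex : ∀ k, Function.Exact (f k) (h k)) (hs : ∀ k, Function.Surjective (h k))
    [Subsingleton (Z 0)] (D : Type u) [CommRing D] [Algebra R D]
    [hfl : ∀ k, Module.Flat D (LinearMap.range ((f k).baseChange D))] (k : ℕ) : Module.Flat D (D ⊗[R] Z k) := by
  induction k with
  | zero => infer_instance
  | succ k ih =>
    have hex1 : Function.Exact (LinearMap.range ((f k).baseChange D)).subtype ((h k).baseChange D) := by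
      intro z
      have h5 := lTensor_exact D (hex k) (hs k) z
      rw [show ((h k).baseChange D) z = ((h k).lTensor D) z from rfl, h5]
      simp only [Submodule.subtype_apply, Set.mem_range, Subtype.exists, LinearMap.mem_range, exists_prop,
        exists_eq_right]
      rfl
    exact Groth.Agent.Divis.FlatExt.flat_of_exact (R := D) (M₁ := LinearMap.range ((f k).baseChange D))
      (M₂ := D ⊗[R] Z (k + 1)) (M₃ := D ⊗[R] Z k)
      (f := (LinearMap.range ((f k).baseChange D)).subtype) (g := (h k).baseChange D)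
      (LinearMap.range ((f k).baseChange D)).injective_subtype hex1
      (LinearMap.lTensor_surjective D (hs k))

/-- **Descent to a finitely generated stage, graded form**. -/
theorem exists_stage_graded [IsNoetherianRing R] {B S : Type u} [CommRing B] [Algebra R B]
    [Algebra.FinitePresentation R B] [CommRing S] [Algebra R S] [Algebra.FiniteType R S]
    {X Z : ℕ → Type u} [∀ k, AddCommGroup (X k)] [∀ k, AddCommGroup (Z k)]
    [∀ k, Module R (X k)] [∀ k, Module R (Z k)] [∀ k, Module B (X k)] [∀ k, Module B (Z k)]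
    [∀ k, IsScalarTower R B (X k)] [∀ k, IsScalarTower R B (Z k)] [∀ k, Module.Finite B (X k)]
    [∀ k, Module.FinitePresentation B (Z k)] (f : ∀ k, X k →ₗ[B] Z (k + 1))
    (h : ∀ k, Z (k + 1) →ₗ[B] Z k) (hex : ∀ k, Function.Exact (f k) (h k)) (hs : ∀ k, Function.Surjective (h k))
    [Subsingleton (Z 0)] {G Q : Type u} [AddCommGroup G] [AddCommGroup Q] [Module R G] [Module R Q]
    [Module S G] [Module S Q] [IsScalarTower R S G] [IsScalarTower R S Q] [Module.Finite S G]
    (ι : G →ₗ[S] Q) (qG : G ≃ₗ[R] ⨁ k, X k) (qQ : Q ≃ₗ[R] ⨁ k, Z (k + 1))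
    (hc : ∀ x, qQ (ι x) = DirectSum.lmap (fun k => (f k).restrictScalars R) (qG x))
    (A : Type u) [CommRing A] [Algebra R A] [hA : ∀ k, Module.Flat A (A ⊗[R] Z k)] :
    ∃ (D : Type u) (_ : CommRing D) (_ : Algebra R D) (_ : D →ₐ[R] A), Algebra.FiniteType R D ∧
      ∀ k, Module.Flat D (D ⊗[R] Z k) := by
  let fR : ∀ k, X k →ₗ[R] Z (k + 1) := fun k => (f k).restrictScalars R
  let hR : ∀ k, Z (k + 1) →ₗ[R] Z k := fun k => (h k).restrictScalars R
  let ιR : G →ₗ[R] Q := ι.restrictScalars R
  let g : Q →ₗ[R] ⨁ k, Z k := DirectSum.lmap hR ∘ₗ qQ.toLinearMap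
  have hg : Function.Surjective g := by
    change Function.Surjective (DirectSum.lmap hR ∘ qQ)
    exact ((DirectSum.lmap_surjective hR).mpr hs).comp qQ.surjective
  have hexR : Function.Exact ι g := by
    intro q
    change DirectSum.lmap hR (qQ q) = 0 ↔ _
    constructor
    · intro h0
      have h1 : qQ q ∈ LinearMap.range (DirectSum.lmap fR) := by
        rw [DirectSum.range_lmap]
        rw [Submodule.mem_comap, Submodule.mem_pi]
        intro k _
        have h2 : (h k) (qQ q k) = 0 := DFunLike.congr_fun h0 k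
        exact (hex k _).mp h2
      obtain ⟨z, hz⟩ := h1
      refine ⟨qG.symm z, ?_⟩
      apply qQ.injective
      rw [hc, LinearEquiv.apply_symm_apply]
      exact hz
    · rintro ⟨z, rfl⟩
      rw [hc]
      ext k
      exact (hex k _).mpr ⟨_, rfl⟩
  have hv : qQ.toLinearMap ∘ₗ ιR = DirectSum.lmap fR ∘ₗ qG.toLinearMap := LinearMap.ext hc
  have hv' : qQ.symm.toLinearMap ∘ₗ DirectSum.lmap fR = ιR ∘ₗ qG.symm.toLinearMap := by
    refine LinearMap.ext fun z => ?_
    obtain ⟨z, rfl⟩ := qG.surjective z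
    change qQ.symm (DirectSum.lmap fR (qG z)) = ι (qG.symm (qG z))
    rw [LinearEquiv.symm_apply_apply, LinearEquiv.symm_apply_eq, hc]
  have hAQ : Module.Flat A (A ⊗[R] Q) := by
    have : Module.Flat A (A ⊗[R] ⨁ k, Z (k + 1)) := (flat_tensor_directSum A).mpr fun k => hA (k + 1)
    exact Module.Flat.of_linearEquiv (AlgebraTensorModule.congr (LinearEquiv.refl A A) qQ)
  have hAC : Module.Flat A (A ⊗[R] ⨁ k, Z k) := (flat_tensor_directSum A).mpr hA
  have H : ∀ (D : Type u) [CommRing D] [Algebra R D],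
      Module.Flat D (LinearMap.range ((ι.restrictScalars R).baseChange D)) →
        Module.Flat D (D ⊗[R] ⨁ k, Z k) := by
    intro D _ _ hD
    rw [flat_tensor_directSum]
    have h1 : Module.Flat D (LinearMap.range ((DirectSum.lmap fR).baseChange D)) :=
      flat_range_of_equiv ((ι.restrictScalars R).baseChange D) ((DirectSum.lmap fR).baseChange D)
        (AlgebraTensorModule.congr (LinearEquiv.refl D D) qG)
        (AlgebraTensorModule.congr (LinearEquiv.refl D D) qQ) fun x => by
        induction x with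
        | zero => simp
        | tmul a m =>
          simp only [AlgebraTensorModule.congr_tmul, LinearEquiv.refl_apply, LinearMap.baseChange_tmul]
          rw [← hc]
          rfl
        | add x y hx hy => simp only [map_add, hx, hy]
    have h2 := flat_range_component fR D
    exact flat_quotients fR hR hex hs D
  have H2 : ∀ (A₁ : Subalgebra R A), (∀ (κ : Type u) [Field κ] [Algebra R κ] (β : A₁ →ₐ[R] κ),
      Cov (ι.restrictScalars R) β) → Cov (ι.restrictScalars R) A₁.val := by
    intro A₁ hA₁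
    have h1 : Cov (DirectSum.lmap fR) A₁.val := cov_lmap fR fun k =>
      cov_of_fields (f k) (h k) (hex k) (hs k) A₁.val fun κ _ _ β =>
        cov_component fR (Cov.of_retract (DirectSum.lmap fR) qG.toLinearMap qQ.toLinearMap hv
          qG.symm.toLinearMap qQ.symm.toLinearMap hv' (by ext; simp) (hA₁ κ β)) k
    exact Cov.of_retract ιR qG.symm.toLinearMap qQ.symm.toLinearMap hv' qG.toLinearMap qQ.toLinearMap
      hv (by ext; simp) h1
  obtain ⟨D, i1, i2, φ, hft, hfl⟩ := exists_stage_flat (R := R) ι g hexR hg H A H2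
  exact ⟨D, i1, i2, φ, hft, (flat_tensor_directSum D).mp hfl⟩

end Main

end K121.Gr
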