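import Mathlib.RingTheory.Filtration
import Mathlib.RingTheory.Flat.Localization
import Mathlib.RingTheory.Flat.Equalizer
import Mathlib.LinearAlgebra.TensorProduct.Pi
import Groth.Agent.Divis.FlatExt

/-!
# Flatness of `M_q` from flatness of all `M ⧸ J ^ k M`, Noetherian case
-/

set_option autoImplicit false
universe u

open TensorProduct

namespace K121.Gr

section

variable {A B : Type u} [CommRing A] [CommRing B] [Algebra A B] {M : Type u} [AddCommGroup M]
  [Module B M] [Module A M] [IsScalarTower A B M]

theorem finite_tensor [Module.Finite B M] (I : Type u) [AddCommGroup I] [Module A I] [Module.Finite A I] :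
    Module.Finite B (M ⊗[A] I) := by
  obtain ⟨n, f, hf⟩ := Module.Finite.exists_fin' A I
  have h1 : Module.Finite B (M ⊗[A] (Fin n → A)) := Module.Finite.equiv (TensorProduct.piScalarRight A B M (Fin n)).symm
  exact Module.Finite.of_surjective (AlgebraTensorModule.lTensor B M f) (LinearMap.lTensor_surjective M hf)

theorem exists_smul_eq_zero [IsNoetherianRing B] [Module.Finite B M] (J : Ideal B)
    [hfl : ∀ k : ℕ, Module.Flat A (M ⧸ (J ^ k • ⊤ : Submodule B M))] (I : Ideal A) (hI : I.FG)
    (x : M ⊗[A] I) (hx : I.subtype.lTensor M x = 0) : ∃ r ∈ J, (1 - r) • x = 0 := by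
  have hIf : Module.Finite A I := Module.Finite.iff_fg.mpr hI
  have hfin : Module.Finite B (M ⊗[A] I) := finite_tensor (B := B) I
  have key : ∀ k : ℕ, x ∈ (J ^ k • ⊤ : Submodule B (M ⊗[A] I)) := by
    intro k
    let N : Submodule B M := J ^ k • ⊤
    let π : M →ₗ[A] M ⧸ N := N.mkQ.restrictScalars A
    have h1 : π.rTensor I x = 0 := by
      have hinj : Function.Injective (I.subtype.lTensor (M ⧸ N)) :=
        Module.Flat.lTensor_preserves_injective_linearMap I.subtype I.injective_subtype
      apply hinj
      rw [map_zero]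
      have h2 : I.subtype.lTensor (M ⧸ N) (π.rTensor I x) = π.rTensor A (I.subtype.lTensor M x) := by
        simp only [← LinearMap.comp_apply, LinearMap.lTensor_comp_rTensor, LinearMap.rTensor_comp_lTensor]
      rw [h2, hx, map_zero]
    have hex : Function.Exact (N.subtype.restrictScalars A) π := by
      intro y
      change N.mkQ y = 0 ↔ _
      rw [Submodule.mkQ_apply, Submodule.Quotient.mk_eq_zero]
      constructor
      · intro hy
        exact ⟨⟨y, hy⟩, rfl⟩
      · rintro ⟨y, rfl⟩
        exact y.2
    obtain ⟨w, rfl⟩ := (rTensor_exact I hex N.mkQ_surjective x).mp h1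
    clear h1 hx
    induction w with
    | zero => simp
    | tmul n a =>
      obtain ⟨n, hn⟩ := n
      rw [LinearMap.rTensor_tmul]
      change n ⊗ₜ[A] a ∈ _
      induction hn using Submodule.smul_induction_on' with
      | smul b hb m _ =>
        rw [← TensorProduct.smul_tmul']
        exact Submodule.smul_mem_smul hb trivial
      | add y _ z _ hy hz => rw [TensorProduct.add_tmul]; exact add_mem hy hz
    | add y z hy hz => rw [map_add]; exact add_mem hy hz
  have h3 : x ∈ (⨅ i : ℕ, J ^ i • ⊤ : Submodule B (M ⊗[A] I)) := (Submodule.mem_iInf _).mpr key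
  obtain ⟨r, hr⟩ := (J.mem_iInf_smul_pow_eq_bot_iff x).mp h3
  exact ⟨r, r.2, by rw [sub_smul, one_smul, hr, sub_self]⟩

theorem flat_localized_of_adic [IsNoetherianRing B] [Module.Finite B M] (J : Ideal B)
    [hfl : ∀ k : ℕ, Module.Flat A (M ⧸ (J ^ k • ⊤ : Submodule B M))] (q : Ideal B) [q.IsPrime] (hq : J ≤ q) :
    Module.Flat A (LocalizedModule q.primeCompl M) := by
  rw [Module.Flat.iff_lTensor_injective]
  intro I hI
  rw [injective_iff_map_eq_zero]
  intro y hy
  let φ : M →ₗ[B] LocalizedModule q.primeCompl M := LocalizedModule.mkLinearMap q.primeCompl M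
  have hφ : ∀ (P : Type u) [AddCommGroup P] [Module A P],
      IsLocalizedModule q.primeCompl (AlgebraTensorModule.rTensor A P φ) := fun P _ _ => inferInstance
  have hφI := hφ I
  have hφA := hφ A
  obtain ⟨⟨x, s⟩, hs⟩ := IsLocalizedModule.surj q.primeCompl (AlgebraTensorModule.rTensor A I φ) y
  have hcomm : ∀ z : M ⊗[A] I, I.subtype.lTensor _ (AlgebraTensorModule.rTensor A I φ z) =
      AlgebraTensorModule.rTensor A A φ (I.subtype.lTensor M z) := by
    intro z
    induction z with
    | zero => simp
    | tmul m a => simp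
    | add z z' hz hz' => simp only [map_add, hz, hz']
  have h1 : AlgebraTensorModule.rTensor A A φ (I.subtype.lTensor M x) = 0 := by
    rw [← hcomm]
    have h2 : AlgebraTensorModule.rTensor A I φ x = s • y := hs.symm
    rw [h2]
    have h3 : I.subtype.lTensor (LocalizedModule q.primeCompl M) (s • y) =
        (AlgebraTensorModule.lTensor B (LocalizedModule q.primeCompl M) I.subtype) ((s : B) • y) := rfl
    rw [h3, map_smul]
    have h4 : (AlgebraTensorModule.lTensor B (LocalizedModule q.primeCompl M) I.subtype) y = 0 := hy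
    rw [h4, smul_zero]
  obtain ⟨t, ht⟩ := (IsLocalizedModule.eq_zero_iff q.primeCompl (AlgebraTensorModule.rTensor A A φ)).mp h1
  have h5 : I.subtype.lTensor M ((t : B) • x) = 0 := by
    have h6 : I.subtype.lTensor M ((t : B) • x) = (t : B) • (AlgebraTensorModule.lTensor B M I.subtype x) :=
      map_smul (AlgebraTensorModule.lTensor B M I.subtype) (t : B) x
    rw [h6]
    exact ht
  obtain ⟨r, hr, hrx⟩ := exists_smul_eq_zero (A := A) J I hI _ h5
  have hr' : 1 - r ∈ q.primeCompl := by
    intro h
    apply ‹q.IsPrime›.ne_top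
    rw [Ideal.eq_top_iff_one]
    have := q.add_mem h (hq hr)
    simpa using this
  have h7 : AlgebraTensorModule.rTensor A I φ x = 0 := by
    rw [IsLocalizedModule.eq_zero_iff q.primeCompl (AlgebraTensorModule.rTensor A I φ)]
    refine ⟨⟨1 - r, hr'⟩ * t, ?_⟩
    rw [mul_smul]
    exact hrx
  rw [h7] at hs
  have h8 : s • y = 0 := hs
  exact IsLocalizedModule.smul_injective (AlgebraTensorModule.rTensor A I φ) s (h8.trans (smul_zero s).symm)

end

end K121.Gr
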