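import Groth.Agent.EGA43.K121.GrColim
import Groth.Agent.EGA43.K121.GrLocal
import Groth.Agent.FlatA.ModelFlat

/-!
# Flatness of `M_q` from flatness of all `M ⧸ J ^ k M`
-/

set_option autoImplicit false
universe u

open TensorProduct

namespace K121.Gr

/-- Flatness of the graded pieces implies flatness of the quotients. -/
theorem flat_quot_of_gr {A B M : Type u} [CommRing A] [CommRing B] [Algebra A B] [AddCommGroup M]
    [Module B M] [Module A M] [IsScalarTower A B M] (J : Ideal B)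
    (hgr : ∀ k : ℕ, Module.Flat A
      (↥(J ^ k • (⊤ : Submodule B M)) ⧸ Submodule.comap (J ^ k • (⊤ : Submodule B M)).subtype (J ^ (k + 1) • ⊤)))
    (k : ℕ) : Module.Flat A (M ⧸ (J ^ k • ⊤ : Submodule B M)) := by
  induction k with
  | zero =>
    have : Subsingleton (M ⧸ (J ^ 0 • ⊤ : Submodule B M)) := by
      rw [Submodule.Quotient.subsingleton_iff]
      simp
    infer_instance
  | succ k ih =>
    let N : Submodule B M := J ^ k • ⊤
    let N' : Submodule B M := J ^ (k + 1) • ⊤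
    have hle : N' ≤ N := Submodule.pow_smul_top_le J M (Nat.le_succ _)
    let f : (N ⧸ Submodule.comap N.subtype N') →ₗ[B] M ⧸ N' :=
      Submodule.mapQ _ _ N.subtype le_rfl
    have hf : Function.Injective f := by
      rw [injective_iff_map_eq_zero]
      intro x hx
      obtain ⟨y, rfl⟩ := Submodule.mkQ_surjective _ x
      have h1 : N'.mkQ y.1 = 0 := hx
      rw [Submodule.mkQ_apply, Submodule.Quotient.mk_eq_zero] at h1
      exact (Submodule.Quotient.mk_eq_zero _).mpr h1
    let g : (M ⧸ N') →ₗ[B] M ⧸ N := Submodule.factor hle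
    have hfg : Function.Exact f g := by
      intro x
      obtain ⟨m, rfl⟩ := Submodule.mkQ_surjective _ x
      change N.mkQ m = 0 ↔ _
      rw [Submodule.mkQ_apply, Submodule.Quotient.mk_eq_zero]
      constructor
      · intro hm
        exact ⟨Submodule.Quotient.mk ⟨m, hm⟩, rfl⟩
      · rintro ⟨y, hy⟩
        obtain ⟨y, rfl⟩ := Submodule.mkQ_surjective _ y
        have h1 : N'.mkQ (y.1 - m) = 0 := by
          rw [map_sub, sub_eq_zero]
          exact hy
        rw [Submodule.mkQ_apply, Submodule.Quotient.mk_eq_zero] at h1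
        have h2 := sub_mem y.2 (hle h1)
        simpa using h2
    have h1 : Module.Flat A (N ⧸ Submodule.comap N.subtype N') := hgr k
    have h2 : Module.Flat A (M ⧸ N) := ih
    exact Groth.Agent.Divis.FlatExt.flat_of_exact (R := A) (f := f.restrictScalars A)
      (g := g.restrictScalars A) hf hfg (Submodule.factor_surjective hle)

theorem flat_localized_of_adic_fp {A B M : Type u} [CommRing A] [CommRing B] [Algebra A B]
    [Algebra.FinitePresentation A B] (J : Ideal B) (hJ : J.FG)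
    [AddCommGroup M] [Module B M] [Module A M] [IsScalarTower A B M] [Module.FinitePresentation B M]
    (hfl : ∀ k : ℕ, Module.Flat A (M ⧸ (J ^ k • ⊤ : Submodule B M)))
    (q : Ideal B) [q.IsPrime] (hq : J ≤ q) :
    Module.Flat A (LocalizedModule q.primeCompl M) := by
  obtain ⟨R₀, B₁, M₁, _, _, _, _, _, _, _, _, _, _, gM, J₁, hR₀, hpush, hB₁, hM₁, hg, rfl⟩ :=
    exists_model_ideal (R := A) (S := B) (M := M) J hJ
  have hft : Algebra.FiniteType ℤ R₀ := R₀.fg_iff_finiteType.mp hR₀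
  have hnoeth : IsNoetherianRing R₀ := Algebra.FiniteType.isNoetherianRing ℤ R₀
  have hA : ∀ k : ℕ, Module.Flat A (A ⊗[R₀] (M₁ ⧸ (J₁ ^ k • ⊤ : Submodule B₁ M₁))) := fun k => by
    have := hfl k
    exact Module.Flat.of_linearEquiv (modelEquiv (R₀ := R₀) (A₀ := A) gM hg J₁ k).symm
  obtain ⟨D, _, _, φ, hftD, hD⟩ := exists_stage_adic R₀ J₁ M₁ A
  let A₁ : Subalgebra R₀ A := φ.range
  have hA₁ : Algebra.FiniteType R₀ A₁ :=
    Algebra.FiniteType.of_surjective φ.rangeRestrict φ.rangeRestrict_surjective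
  have hnoeth1 : IsNoetherianRing A₁ := Algebra.FiniteType.isNoetherianRing R₀ A₁
  have hD₁ : ∀ k : ℕ, Module.Flat A₁ (A₁ ⊗[R₀] (M₁ ⧸ (J₁ ^ k • ⊤ : Submodule B₁ M₁))) := fun k =>
    flat_of_algHom φ.rangeRestrict (hD k)
  obtain ⟨B₂, N₂, _, _, _, _, _, _, _, _, _, _, _, _, _, _, _, _, g₂, hg₂⟩ :=
    Groth.Agent.FlatA.FlatDescent.exists_level_model (A := R₀) (B := B₁) (N := M₁) (R := A) (S := B) A₁
  obtain ⟨_, _, h₁, hh₁, -⟩ := Groth.Agent.FlatA.ModelFlat.exists_top_map (A := R₀) gM hg g₂ hg₂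
  have _ : IsScalarTower R₀ B₂ B := IsScalarTower.of_algebraMap_eq fun x ↦ by
    rw [IsScalarTower.algebraMap_apply R₀ B₁ B₂, ← IsScalarTower.algebraMap_apply B₁ B₂ B,
      ← IsScalarTower.algebraMap_apply R₀ B₁ B]
  have i1 : Algebra.IsPushout A₁ A B₂ B :=
    (Algebra.IsPushout.comp_iff (R := R₀) (S := A₁) (R' := B₁) (S' := B₂) (T := A)
      (T' := B)).mp hpush
  have i2 : Algebra.FinitePresentation A₁ B₂ :=
    Groth.Agent.FlatA.ModelFlat.finitePresentation_of_isPushout (A := R₀) (B := B₁)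
  have i3 : Module.FinitePresentation B₂ N₂ := FinitePresentation.of_isBaseChange g₂ hg₂
  have i4 : IsNoetherianRing B₂ := Algebra.FiniteType.isNoetherianRing A₁ B₂
  have hfl₂ : ∀ k : ℕ, Module.Flat A₁ (N₂ ⧸ ((J₁.map (algebraMap B₁ B₂)) ^ k • ⊤ : Submodule B₂ N₂)) := fun k => by
    have := hD₁ k
    exact Module.Flat.of_linearEquiv (modelEquiv (R₀ := R₀) (A₀ := A₁) g₂ hg₂ J₁ k)
  have hq₂ : J₁.map (algebraMap B₁ B₂) ≤ q.under B₂ := by
    rw [Ideal.map_le_iff_le_comap]
    intro x hx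
    change algebraMap B₂ B (algebraMap B₁ B₂ x) ∈ q
    rw [← IsScalarTower.algebraMap_apply B₁ B₂ B]
    exact hq (Ideal.mem_map_of_mem _ hx)
  have h5 := flat_localized_of_adic (A := A₁) (M := N₂) (J₁.map (algebraMap B₁ B₂)) (q.under B₂) hq₂
  exact Groth.Agent.FlatA.FlatModel.flat_localizedModule_of_isPushout (R₀ := A₁) (R := A) h₁ hh₁ q
    (q.under B₂) rfl h5

end K121.Gr
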