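import Groth.Agent.EGA43.K121.GrGraded
import Mathlib.RingTheory.Filtration
import Mathlib.Data.Finsupp.ToDFinsupp

/-!
# Descent of the flatness of all `M / J ^ k M` to a finitely generated stage
-/

set_option autoImplicit false
universe u

open TensorProduct DirectSum

namespace K121.Gr

variable {R B : Type u} [CommRing R] [CommRing B] [Algebra R B] (J : Ideal B) (M : Type u) [AddCommGroup M]
  [Module B M] [Module R M] [IsScalarTower R B M]

/-- The shifted `J`-adic filtration. -/
def shiftF : J.Filtration M where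
  N k := J ^ (k + 1) • ⊤
  mono i := Submodule.pow_smul_top_le J M (Nat.le_succ _)
  smul_le i := by rw [← mul_smul, ← pow_succ']

instance towerRees : IsScalarTower R (reesAlgebra J) (PolynomialModule B M) :=
  ⟨fun r s p => smul_assoc r s.1 p⟩

section Psi

variable (F : J.Filtration M)

variable (R) in
/-- The map `M[X] → ⨁ M ⧸ F k`. -/
noncomputable def Psi : PolynomialModule B M →ₗ[R] ⨁ k, M ⧸ F.N k := by
  classical
  exact (DFinsupp.mapRange.linearMap (fun k => (F.N k).mkQ.restrictScalars R)) ∘ₗ
    (finsuppLequivDFinsupp R).toLinearMap ∘ₗ (PolynomialModule.coeffLinearEquiv B R).toLinearMap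

theorem Psi_apply (p : PolynomialModule B M) (k : ℕ) : Psi R J M F p k = (F.N k).mkQ (p.coeff k) := by
  classical
  rfl

theorem Psi_surjective : Function.Surjective (Psi R J M F) := by
  classical
  rw [Psi]
  refine Function.Surjective.comp (g := DFinsupp.mapRange.linearMap
    (fun k => (F.N k).mkQ.restrictScalars R)) ?_ ?_
  · exact (DFinsupp.mapRange_surjective _ (fun _ => map_zero _)).mpr fun k => Submodule.mkQ_surjective _
  · exact (finsuppLequivDFinsupp R).surjective.comp (PolynomialModule.coeffLinearEquiv B R).surjective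

theorem ker_Psi : LinearMap.ker (Psi R J M F) = F.submodule.restrictScalars R := by
  ext p
  rw [LinearMap.mem_ker, Submodule.restrictScalars_mem, Ideal.Filtration.mem_submodule]
  constructor
  · intro h k
    have := DFunLike.congr_fun h k
    rw [Psi_apply] at this
    exact (Submodule.Quotient.mk_eq_zero _).mp this
  · intro h
    ext k
    rw [Psi_apply]
    exact (Submodule.Quotient.mk_eq_zero _).mpr (h k)

variable (R) in
/-- `M[X] / F ≃ ⨁ M ⧸ F k`. -/
noncomputable def qQ : (PolynomialModule B M ⧸ F.submodule) ≃ₗ[R] ⨁ k, M ⧸ F.N k :=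
  (Submodule.Quotient.restrictScalarsEquiv R F.submodule).symm ≪≫ₗ
    Submodule.quotEquivOfEq _ _ (ker_Psi J M F).symm ≪≫ₗ
    (Psi R J M F).quotKerEquivOfSurjective (Psi_surjective J M F)

theorem qQ_mk (p : PolynomialModule B M) : qQ R J M F (F.submodule.mkQ p) = Psi R J M F p := rfl

end Psi

section QG

variable (F : J.Filtration M)

variable (R) in
/-- `m ↦ m X ^ k`. -/
noncomputable def sgl (B : Type u) [CommRing B] [Algebra R B] (M : Type u) [AddCommGroup M]
    [Module B M] [Module R M] [IsScalarTower R B M] (k : ℕ) : M →ₗ[R] PolynomialModule B M :=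
  (PolynomialModule.coeffLinearEquiv B R).symm.toLinearMap ∘ₗ Finsupp.lsingle k

theorem coeff_sgl (k : ℕ) (m : M) (i : ℕ) : (sgl R B M k m).coeff i = if k = i then m else 0 := by
  change (Finsupp.single k m) i = _
  rw [Finsupp.single_apply]

variable (R) in
/-- The map `F k → F`. -/
noncomputable def eG (k : ℕ) : F.N k →ₗ[R] F.submodule :=
  ((sgl R B M k ∘ₗ (F.N k).subtype.restrictScalars R).codRestrict (F.submodule.restrictScalars R) (by
    intro x i
    change (sgl R B M k x.1).coeff i ∈ F.N i
    rw [coeff_sgl]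
    split_ifs with h
    · subst h; exact x.2
    · exact zero_mem _) : F.N k →ₗ[R] F.submodule.restrictScalars R)

theorem coeff_eG (k : ℕ) (m : F.N k) (i : ℕ) :
    (eG R J M F k m).1.coeff i = if k = i then (m : M) else 0 := coeff_sgl M k m.1 i

variable (R) in
/-- The map `⨁ F k → F`. -/
noncomputable def toG : (⨁ k, F.N k) →ₗ[R] F.submodule :=
  DirectSum.toModule R ℕ _ fun k => eG R J M F k

theorem coeff_toG (x : ⨁ k, F.N k) (i : ℕ) : (toG R J M F x).1.coeff i = x i := by
  classical
  induction x using DirectSum.induction_on with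
  | zero => simp
  | of k m =>
    rw [← DirectSum.lof_eq_of R, toG, DirectSum.toModule_lof, coeff_eG]
    split_ifs with h
    · subst h
      rw [DirectSum.lof_apply]
    · rw [DirectSum.lof_eq_of, DirectSum.of_eq_of_ne _ _ _ (Ne.symm h)]
      rfl
  | add x y hx hy =>
    rw [map_add, DirectSum.add_apply, Submodule.coe_add, Submodule.coe_add, PolynomialModule.coeff_add,
      Finsupp.add_apply, hx, hy]

theorem toG_bijective : Function.Bijective (toG R J M F) := by
  classical
  constructor
  · intro x y hxy
    ext i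
    have h1 := coeff_toG (R := R) J M F x i
    rw [hxy, coeff_toG] at h1
    exact h1.symm
  · intro p
    refine ⟨∑ k ∈ p.1.coeff.support, DirectSum.lof R ℕ (fun k => F.N k) k ⟨p.1.coeff k, p.2 k⟩, ?_⟩
    apply Subtype.ext
    refine PolynomialModule.ext (Finsupp.ext fun i => ?_)
    rw [coeff_toG, DFinsupp.finsetSum_apply, AddSubmonoidClass.coe_finsetSum]
    rw [Finset.sum_eq_single i]
    · rw [DirectSum.lof_eq_of, DirectSum.of_eq_same]
    · intro k _ hk
      rw [DirectSum.lof_eq_of, DirectSum.of_eq_of_ne _ _ _ (Ne.symm hk)]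
      rfl
    · intro h
      rw [DirectSum.lof_eq_of, DirectSum.of_eq_same]
      simpa using h

variable (R) in
/-- `F ≃ ⨁ F k`. -/
noncomputable def qG : F.submodule ≃ₗ[R] ⨁ k, F.N k :=
  (LinearEquiv.ofBijective _ (toG_bijective J M F)).symm

theorem qG_apply (x : F.submodule) (i : ℕ) : (qG R J M F x i : M) = x.1.coeff i := by
  obtain ⟨y, rfl⟩ := (toG_bijective (R := R) J M F).2 x
  have h1 : qG R J M F (toG R J M F y) = y :=
    LinearEquiv.symm_apply_apply (LinearEquiv.ofBijective _ (toG_bijective (R := R) J M F)) y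
  rw [h1, coeff_toG]

end QG

section Main

variable (R) in
theorem exists_stage_adic [IsNoetherianRing R] [Algebra.FiniteType R B] [Module.Finite B M]
    (A : Type u) [CommRing A] [Algebra R A]
    [hA : ∀ k : ℕ, Module.Flat A (A ⊗[R] (M ⧸ (J ^ k • ⊤ : Submodule B M)))] :
    ∃ (D : Type u) (_ : CommRing D) (_ : Algebra R D) (_ : D →ₐ[R] A), Algebra.FiniteType R D ∧
      ∀ k : ℕ, Module.Flat D (D ⊗[R] (M ⧸ (J ^ k • ⊤ : Submodule B M))) := by
  have hB : IsNoetherianRing B := Algebra.FiniteType.isNoetherianRing R B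
  have hBfp : Algebra.FinitePresentation R B := Algebra.FinitePresentation.of_finiteType.mp inferInstance
  have hS : Algebra.FiniteType R (reesAlgebra J) :=
    Algebra.FiniteType.trans (S := B) inferInstance inferInstance
  let F : J.Filtration M := J.stableFiltration ⊤
  let F' : J.Filtration M := shiftF J M
  have hG : Module.Finite (reesAlgebra J) F.submodule := Module.Finite.iff_fg.mpr
    ((F.submodule_fg_iff_stable (fun i => IsNoetherian.noetherian _)).mpr (J.stableFiltration_stable ⊤))
  have h0 : Subsingleton (M ⧸ (J ^ 0 • ⊤ : Submodule B M)) := by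
    rw [Submodule.Quotient.subsingleton_iff]
    simp
  have hfp : ∀ k : ℕ, Module.FinitePresentation B (M ⧸ (J ^ k • ⊤ : Submodule B M)) := fun k =>
    Module.finitePresentation_of_finite _ _
  let ι : F.submodule →ₗ[reesAlgebra J] (PolynomialModule B M ⧸ F'.submodule) :=
    F'.submodule.mkQ ∘ₗ F.submodule.subtype
  have hle : ∀ k, (J ^ (k + 1) • ⊤ : Submodule B M) ≤ (J ^ k • ⊤ : Submodule B M) := fun k =>
    Submodule.pow_smul_top_le J M (Nat.le_succ _)
  exact exists_stage_graded (R := R) (B := B) (S := reesAlgebra J)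
    (X := fun k => (J ^ k • ⊤ : Submodule B M)) (Z := fun k => M ⧸ (J ^ k • ⊤ : Submodule B M))
    (fun k => (J ^ (k + 1) • ⊤ : Submodule B M).mkQ ∘ₗ (J ^ k • ⊤ : Submodule B M).subtype)
    (fun k => Submodule.factor (hle k)) (fun k => by
      intro x
      obtain ⟨m, rfl⟩ := Submodule.mkQ_surjective _ x
      change (J ^ k • ⊤ : Submodule B M).mkQ m = 0 ↔ _
      rw [Submodule.mkQ_apply, Submodule.Quotient.mk_eq_zero]
      constructor
      · intro hm
        exact ⟨⟨m, hm⟩, rfl⟩
      · rintro ⟨y, hy⟩
        have h1 : (J ^ (k + 1) • ⊤ : Submodule B M).mkQ (y.1 - m) = 0 := by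
          rw [map_sub, sub_eq_zero]
          exact hy
        rw [Submodule.mkQ_apply, Submodule.Quotient.mk_eq_zero] at h1
        have h2 := sub_mem y.2 (hle k h1)
        simpa using h2)
    (fun k => Submodule.factor_surjective (hle k))
    ι (qG R J M F) (qQ R J M F') (fun (x : F.submodule) => by
      refine DFinsupp.ext fun k => ?_
      rw [DirectSum.lmap_apply]
      change Psi R J M F' (x : PolynomialModule B M) k = _
      rw [Psi_apply]
      change _ = (J ^ (k + 1) • ⊤ : Submodule B M).mkQ ((qG R J M F x k : M))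
      rw [qG_apply]
      rfl) A

end Main

end K121.Gr
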