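import Groth.Agent.EGA43.K121.GrDegree
import Groth.Agent.Etbase.FlatStageModule

/-!
# Descent of flatness of a filtered quotient to a finitely generated stage, abstract form
-/

set_option autoImplicit false
universe u

open TensorProduct

namespace K121.Gr

attribute [local instance] Algebra.TensorProduct.rightAlgebra

/-- If `N` is an `A₁`-module with `A₂ ⊗ N` flat over the subalgebra `A₂` of `A` then `A₂ ⊗ N → A ⊗ N` is injective. -/
theorem rTensor_injective_of_flat_subalgebra {A₁ A N : Type u} [CommRing A₁] [CommRing A] [Algebra A₁ A]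
    [AddCommGroup N] [Module A₁ N] (A₂ : Subalgebra A₁ A) [Module.Flat A₂ (A₂ ⊗[A₁] N)] :
    Function.Injective (tm N A₂.val) := by
  have h1 : Function.Injective ((Algebra.linearMap A₂ A).rTensor (A₂ ⊗[A₁] N)) :=
    Module.Flat.rTensor_preserves_injective_linearMap _ (show Function.Injective (algebraMap A₂ A) from
      Subtype.val_injective)
  have h2 : ∀ x : A₂ ⊗[A₁] N, tm N A₂.val x = AlgebraTensorModule.cancelBaseChange A₁ A₂ A A N
      ((Algebra.linearMap A₂ A).rTensor (A₂ ⊗[A₁] N) (1 ⊗ₜ x)) := by
    intro x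
    rw [LinearMap.rTensor_tmul, Algebra.linearMap_apply, map_one]
    induction x with
    | zero => simp
    | tmul a m =>
      rw [LinearMap.rTensor_tmul, AlgebraTensorModule.cancelBaseChange_tmul, Algebra.smul_def, mul_one]
      rfl
    | add x y hx hy => rw [map_add, TensorProduct.tmul_add, map_add, hx, hy]
  intro x y hxy
  rw [h2, h2] at hxy
  have h3 := h1 ((AlgebraTensorModule.cancelBaseChange A₁ A₂ A A N).injective hxy)
  have h4 := congrArg (TensorProduct.lid A₂ (A₂ ⊗[A₁] N)) h3
  simpa using h4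

theorem exists_flat_range_stage {A₁ A S₁ X Y : Type u} [CommRing A₁] [IsNoetherianRing A₁] [CommRing A]
    [Algebra A₁ A] [CommRing S₁] [Algebra A₁ S₁] [Algebra.FiniteType A₁ S₁] [AddCommGroup X] [AddCommGroup Y]
    [Module S₁ X] [Module S₁ Y] [Module A₁ X] [Module A₁ Y] [IsScalarTower A₁ S₁ X] [IsScalarTower A₁ S₁ Y]
    [Module.Finite S₁ X] (f : X →ₗ[S₁] Y)
    (hinj : Function.Injective (((LinearMap.range f).subtype.restrictScalars A₁).baseChange A))
    [Module.Flat A (A ⊗[A₁] (LinearMap.range f))] :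
    ∃ s : Finset A, Module.Flat (Algebra.adjoin A₁ (s : Set A))
      (LinearMap.range ((f.restrictScalars A₁).baseChange (Algebra.adjoin A₁ (s : Set A)))) := by
  have : Algebra.FinitePresentation A₁ S₁ := Algebra.FinitePresentation.of_finiteType.mp inferInstance
  have : IsNoetherianRing S₁ := Algebra.FiniteType.isNoetherianRing A₁ _
  have : Module.FinitePresentation S₁ (LinearMap.range f) := Module.finitePresentation_of_finite _ _
  obtain ⟨s, hs⟩ := Groth.Agent.Etbase.FlatStageModule.exists_flat_stage (A₀ := A₁) (A := A) S₁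
    (LinearMap.range f)
  refine ⟨s, ?_⟩
  let A₂ := Algebra.adjoin A₁ (s : Set A)
  let φ : A₂ ⊗[A₁] LinearMap.range f →ₗ[A₂] A₂ ⊗[A₁] Y :=
    ((LinearMap.range f).subtype.restrictScalars A₁).baseChange A₂
  have hφ : Function.Injective φ := by
    have h1 : ∀ x, tm Y A₂.val (φ x) =
        ((LinearMap.range f).subtype.restrictScalars A₁).baseChange A (tm (LinearMap.range f) A₂.val x) := by
      intro x
      rw [tm_baseChange]
    intro x y hxy
    have h2 : tm (LinearMap.range f) A₂.val x = tm (LinearMap.range f) A₂.val y := by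
      apply hinj
      rw [← h1, ← h1, hxy]
    exact rTensor_injective_of_flat_subalgebra (A₁ := A₁) A₂ h2
  have h1 : LinearMap.range φ = LinearMap.range ((f.restrictScalars A₁).baseChange A₂) := by
    let r : X →ₗ[A₁] LinearMap.range f := f.rangeRestrict.restrictScalars A₁
    have h3 : (f.restrictScalars A₁).baseChange A₂ = φ ∘ₗ r.baseChange A₂ := by
      rw [← LinearMap.baseChange_comp]
      rfl
    rw [h3, LinearMap.range_comp_of_range_eq_top]
    rw [LinearMap.range_eq_top]
    exact LinearMap.lTensor_surjective A₂ f.surjective_rangeRestrict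
  change Module.Flat A₂ (LinearMap.range ((f.restrictScalars A₁).baseChange A₂))
  rw [← h1]
  exact Module.Flat.of_linearEquiv (LinearEquiv.ofInjective φ hφ).symm

section EE

variable {R : Type u} [CommRing R] {S : Type u} [CommRing S] [Algebra R S]
  {G Q C : Type u} [AddCommGroup G] [AddCommGroup Q] [AddCommGroup C]
  [Module R G] [Module R Q] [Module R C] [Module S G] [Module S Q] [IsScalarTower R S G] [IsScalarTower R S Q]
  (ι : G →ₗ[S] Q) (A' κ : Type u) [CommRing A'] [Algebra R A'] [CommRing κ] [Algebra R κ] [Algebra A' κ]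
  [IsScalarTower R A' κ]

/-- `κ ⊗[A'] ((A' ⊗[R] S) ⊗[S] G) ≃ κ ⊗[R] G`. -/
noncomputable def EE (S A' κ G : Type u) [CommRing S] [Algebra R S] [AddCommGroup G] [Module R G]
    [Module S G] [IsScalarTower R S G] [CommRing A'] [Algebra R A'] [CommRing κ] [Algebra R κ] [Algebra A' κ]
    [IsScalarTower R A' κ] : κ ⊗[A'] ((A' ⊗[R] S) ⊗[S] G) ≃ₗ[κ] κ ⊗[R] G :=
  (AlgebraTensorModule.congr (LinearEquiv.refl κ κ) (eqv (R := R) S A' G).symm).trans
    (AlgebraTensorModule.cancelBaseChange R A' κ κ G)

theorem EE_tmul (c : κ) (x : A' ⊗[R] G) :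
    EE (R := R) S A' κ G (c ⊗ₜ (eqv (R := R) S A' G x)) = c • tm G (IsScalarTower.toAlgHom R A' κ) x := by
  simp only [EE, LinearEquiv.trans_apply, AlgebraTensorModule.congr_tmul, LinearEquiv.refl_apply,
    LinearEquiv.symm_apply_apply]
  induction x with
  | zero => simp
  | tmul a m =>
    simp only [AlgebraTensorModule.cancelBaseChange_tmul, LinearMap.rTensor_tmul,
      TensorProduct.smul_tmul', smul_eq_mul, Algebra.smul_def]
    rw [mul_comm]
    rfl
  | add n n' hn hn' => simp only [TensorProduct.tmul_add, map_add, hn, hn', smul_add]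

theorem EE_baseChange (x : κ ⊗[A'] ((A' ⊗[R] S) ⊗[S] G)) :
    (ι.restrictScalars R).baseChange κ (EE (R := R) S A' κ G x) =
      EE (R := R) S A' κ Q (((ι.baseChange (A' ⊗[R] S)).restrictScalars A').baseChange κ x) := by
  induction x with
  | zero => simp
  | add x y hx hy => simp only [map_add, hx, hy]
  | tmul d z =>
    obtain ⟨w, rfl⟩ := (eqv (R := R) S A' G).surjective z
    rw [EE_tmul, LinearMap.baseChange_tmul, LinearMap.restrictScalars_apply, eqv_baseChange, EE_tmul,
      map_smul, tm_baseChange]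

end EE

section Main

variable {R : Type u} [CommRing R] {S : Type u} [CommRing S] [Algebra R S]
  {G Q C : Type u} [AddCommGroup G] [AddCommGroup Q] [AddCommGroup C]
  [Module R G] [Module R Q] [Module R C] [Module S G] [Module S Q] [IsScalarTower R S G] [IsScalarTower R S Q]
  (ι : G →ₗ[S] Q)

/-- The image of `ι` over `A` is flat as soon as `A ⊗ Q` and `A ⊗ C` are. -/
theorem flat_range (g : Q →ₗ[R] C) (hex : Function.Exact ι g) (hg : Function.Surjective g)
    (A : Type u) [CommRing A] [Algebra R A] [Module.Flat A (A ⊗[R] Q)] [Module.Flat A (A ⊗[R] C)] :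
    Module.Flat A (LinearMap.range ((ι.restrictScalars R).baseChange A)) := by
  have hex1 : Function.Exact (LinearMap.range ((ι.restrictScalars R).baseChange A)).subtype
      (g.baseChange A) := by
    intro z
    have hex' : Function.Exact (ι.restrictScalars R) g := hex
    have h5 := lTensor_exact A hex' hg z
    rw [show (g.baseChange A) z = (g.lTensor A) z from rfl, h5]
    simp only [Submodule.subtype_apply, Set.mem_range, Subtype.exists, LinearMap.mem_range, exists_prop,
      exists_eq_right]
    rfl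
  exact Groth.Agent.Divis.FlatExt.flat_of_exact_left (R := A) (M₁ := LinearMap.range
    ((ι.restrictScalars R).baseChange A)) (M₂ := A ⊗[R] Q) (M₃ := A ⊗[R] C)
    (f := (LinearMap.range ((ι.restrictScalars R).baseChange A)).subtype) (g := g.baseChange A)
    (LinearMap.range ((ι.restrictScalars R).baseChange A)).injective_subtype hex1
    (LinearMap.lTensor_surjective A hg)

section

variable (A₁ A : Type u) [CommRing A₁] [Algebra R A₁] [CommRing A] [Algebra R A] [Algebra A₁ A]
  [IsScalarTower R A₁ A]

theorem injective_of_cov (hcov : Cov (ι.restrictScalars R) (IsScalarTower.toAlgHom R A₁ A)) :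
    Function.Injective (((LinearMap.range (ι.baseChange (A₁ ⊗[R] S))).subtype.restrictScalars A₁).baseChange A) := by
  let S₁ := A₁ ⊗[R] S
  let f : S₁ ⊗[S] G →ₗ[S₁] S₁ ⊗[S] Q := ι.baseChange S₁
  let fA := (f.restrictScalars A₁).baseChange A
  let r : S₁ ⊗[S] G →ₗ[A₁] LinearMap.range f := f.rangeRestrict.restrictScalars A₁
  have hr : Function.Surjective r := f.surjective_rangeRestrict
  let j : LinearMap.range f →ₗ[A₁] S₁ ⊗[S] Q := (LinearMap.range f).subtype.restrictScalars A₁
  have hjr : fA = j.baseChange A ∘ₗ r.baseChange A := by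
    rw [← LinearMap.baseChange_comp]
    rfl
  have hzero : ∀ w ∈ Sp (ι.restrictScalars R) (IsScalarTower.toAlgHom R A₁ A),
      r.baseChange A ((EE (R := R) S A₁ A G).symm w) = 0 := by
    intro w hw
    induction hw using Submodule.span_induction with
    | mem w hw =>
      obtain ⟨z, hz, rfl⟩ := hw
      have h1 : EE (R := R) S A₁ A G (1 ⊗ₜ (eqv (R := R) S A₁ G z)) = tm G (IsScalarTower.toAlgHom R A₁ A) z := by
        rw [EE_tmul, one_smul]
      rw [← h1, LinearEquiv.symm_apply_apply, LinearMap.baseChange_tmul]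
      have h2 : r (eqv (R := R) S A₁ G z) = 0 := by
        apply Subtype.ext
        change f (eqv (R := R) S A₁ G z) = 0
        have h3 := eqv_baseChange (R := R) ι A₁ z
        rw [(mem_K _).mp hz, map_zero] at h3
        exact h3
      rw [h2, TensorProduct.tmul_zero]
    | zero => simp
    | add w w' _ _ hw hw' => rw [map_add, map_add, hw, hw', add_zero]
    | smul c w _ hw => rw [map_smul, map_smul, hw, smul_zero]
  change Function.Injective (j.baseChange A)
  rw [injective_iff_map_eq_zero]
  intro y hy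
  obtain ⟨x, rfl⟩ : ∃ x, r.baseChange A x = y := LinearMap.lTensor_surjective A hr y
  have h1 : fA x = 0 := by rw [hjr]; exact hy
  have h2 := EE_baseChange (R := R) ι A₁ A x
  have h3 : EE (R := R) S A₁ A G x ∈ K (ι.restrictScalars R) A := by
    rw [mem_K, h2]
    exact (congrArg _ h1).trans (map_zero _)
  have h4 := hzero _ (hcov h3)
  rwa [LinearEquiv.symm_apply_apply] at h4

theorem flat_tensor_range (hcov : Cov (ι.restrictScalars R) (IsScalarTower.toAlgHom R A₁ A))
    [Module.Flat A (LinearMap.range ((ι.restrictScalars R).baseChange A))] :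
    Module.Flat A (A ⊗[A₁] LinearMap.range (ι.baseChange (A₁ ⊗[R] S))) := by
  have hinj := injective_of_cov ι A₁ A hcov
  let S₁ := A₁ ⊗[R] S
  let f : S₁ ⊗[S] G →ₗ[S₁] S₁ ⊗[S] Q := ι.baseChange S₁
  let fA := (f.restrictScalars A₁).baseChange A
  let r : S₁ ⊗[S] G →ₗ[A₁] LinearMap.range f := f.rangeRestrict.restrictScalars A₁
  have hr : Function.Surjective r := f.surjective_rangeRestrict
  let j : LinearMap.range f →ₗ[A₁] S₁ ⊗[S] Q := (LinearMap.range f).subtype.restrictScalars A₁
  have hjr : fA = j.baseChange A ∘ₗ r.baseChange A := by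
    rw [← LinearMap.baseChange_comp]
    rfl
  have h2 : Module.Flat A (LinearMap.range fA) :=
    flat_range_of_equiv _ fA (EE (R := R) S A₁ A G).symm (EE (R := R) S A₁ A Q).symm fun x => by
      obtain ⟨x, rfl⟩ := (EE (R := R) S A₁ A G).surjective x
      rw [LinearEquiv.symm_apply_apply, EE_baseChange, LinearEquiv.symm_apply_apply]
  have h3 : LinearMap.range (j.baseChange A) = LinearMap.range fA := by
    rw [hjr, LinearMap.range_comp_of_range_eq_top]
    rw [LinearMap.range_eq_top]
    exact LinearMap.lTensor_surjective A hr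
  rw [← h3] at h2
  exact Module.Flat.of_linearEquiv (LinearEquiv.ofInjective (j.baseChange A) hinj)

end

theorem exists_stage_flat_aux [Algebra.FiniteType R S] [Module.Finite S G]
    (g : Q →ₗ[R] C) (hex : Function.Exact ι g) (hg : Function.Surjective g)
    (H : ∀ (D : Type u) [CommRing D] [Algebra R D],
      Module.Flat D (LinearMap.range ((ι.restrictScalars R).baseChange D)) → Module.Flat D (D ⊗[R] C))
    (A₁ A : Type u) [CommRing A] [Algebra R A] [Module.Flat A (A ⊗[R] Q)] [Module.Flat A (A ⊗[R] C)]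
    [CommRing A₁] [IsNoetherianRing A₁] [Algebra R A₁] [Algebra.FiniteType R A₁] [Algebra A₁ A]
    [IsScalarTower R A₁ A]
    (hcov : Cov (ι.restrictScalars R) (IsScalarTower.toAlgHom R A₁ A)) :
    ∃ (D : Type u) (_ : CommRing D) (_ : Algebra R D) (_ : D →ₐ[R] A), Algebra.FiniteType R D ∧
      Module.Flat D (D ⊗[R] C) := by
  have hfl := flat_range ι g hex hg A
  have hinj := injective_of_cov ι A₁ A hcov
  have hflat := flat_tensor_range ι A₁ A hcov
  obtain ⟨s, hs⟩ := exists_flat_range_stage (A₁ := A₁) (A := A) (ι.baseChange (A₁ ⊗[R] S)) hinj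
  have hft2 : Algebra.FiniteType A₁ (Algebra.adjoin A₁ (s : Set A)) :=
    (Subalgebra.fg_iff_finiteType _).mp (Subalgebra.fg_adjoin_finset s)
  generalize Algebra.adjoin A₁ (s : Set A) = A₂ at hs hft2
  refine ⟨A₂, inferInstance, inferInstance, A₂.val.restrictScalars R,
    Algebra.FiniteType.trans (S := A₁) (A := A₂) inferInstance hft2, ?_⟩
  have h4 : Module.Flat A₂ (LinearMap.range ((ι.restrictScalars R).baseChange A₂)) :=
    flat_range_of_equiv _ _ (EE (R := R) S A₁ A₂ G) (EE (R := R) S A₁ A₂ Q)
      fun x => EE_baseChange (R := R) ι A₁ A₂ x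
  exact H A₂ h4

/-- **Descent to a finitely generated stage, abstract form**. -/
theorem exists_stage_flat [IsNoetherianRing R] [Algebra.FiniteType R S] [Module.Finite S G]
    (g : Q →ₗ[R] C) (hex : Function.Exact ι g) (hg : Function.Surjective g)
    (H : ∀ (D : Type u) [CommRing D] [Algebra R D],
      Module.Flat D (LinearMap.range ((ι.restrictScalars R).baseChange D)) → Module.Flat D (D ⊗[R] C))
    (A : Type u) [CommRing A] [Algebra R A] [Module.Flat A (A ⊗[R] Q)] [Module.Flat A (A ⊗[R] C)]
    (H2 : ∀ (A₁ : Subalgebra R A), (∀ (κ : Type u) [Field κ] [Algebra R κ] (β : A₁ →ₐ[R] κ),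
      Cov (ι.restrictScalars R) β) → Cov (ι.restrictScalars R) A₁.val) :
    ∃ (D : Type u) (_ : CommRing D) (_ : Algebra R D) (_ : D →ₐ[R] A), Algebra.FiniteType R D ∧
      Module.Flat D (D ⊗[R] C) := by
  obtain ⟨A₁, hA₁, hcovf⟩ := exists_stage_field (A := A) ι g hex hg H
  have hcov : Cov (ι.restrictScalars R) (IsScalarTower.toAlgHom R A₁ A) := H2 A₁ hcovf
  have hft : Algebra.FiniteType R A₁ := (Subalgebra.fg_iff_finiteType A₁).mp hA₁
  have hnoeth : IsNoetherianRing A₁ := Algebra.FiniteType.isNoetherianRing R A₁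
  exact exists_stage_flat_aux ι g hex hg H A₁ A hcov

end Main

end K121.Gr
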