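import Groth.Agent.EGA43.K121.GrCover
import Groth.Agent.FlatA.GenericFree2

/-!
# Kernels after base change: finite generation and strata
-/

set_option autoImplicit false
universe u

open TensorProduct

namespace K121.Gr

attribute [local instance] Algebra.TensorProduct.rightAlgebra

variable {R : Type u} [CommRing R] {S : Type u} [CommRing S] [Algebra R S]
  {G Q C : Type u} [AddCommGroup G] [AddCommGroup Q] [AddCommGroup C]
  [Module R G] [Module R Q] [Module R C] [Module S G] [Module S Q] [IsScalarTower R S G] [IsScalarTower R S Q]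
  (ι : G →ₗ[S] Q)

/-- The action of `s : S` on `D ⊗ G`. -/
abbrev act (D G : Type u) [AddCommGroup G] [Module R G] [Module S G] [IsScalarTower R S G]
    [CommRing D] [Algebra R D] (s : S) : D ⊗[R] G →ₗ[R] D ⊗[R] G :=
  (Algebra.lsmul R R G s).lTensor D

section

variable (D : Type u) [CommRing D] [Algebra R D]

/-- `D ⊗[R] G ≃ (D ⊗[R] S) ⊗[S] G`. -/
noncomputable abbrev eqv (S D G : Type u) [CommRing S] [Algebra R S] [AddCommGroup G] [Module R G] [Module S G]
    [IsScalarTower R S G]
    [CommRing D] [Algebra R D] : D ⊗[R] G ≃ₗ[D] (D ⊗[R] S) ⊗[S] G :=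
  (Algebra.IsPushout.cancelBaseChange R D S (D ⊗[R] S) G).symm

theorem eqv_tmul (d : D) (m : G) : eqv (R := R) S D G (d ⊗ₜ m) = (algebraMap D (D ⊗[R] S) d) ⊗ₜ m :=
  Algebra.IsPushout.cancelBaseChange_symm_tmul R D S (D ⊗[R] S) G d m

theorem eqv_act (s : S) (x : D ⊗[R] G) :
    eqv (R := R) S D G (act D G s x) = algebraMap S (D ⊗[R] S) s • eqv (R := R) S D G x := by
  induction x with
  | zero => simp
  | tmul d m =>
    rw [LinearMap.lTensor_tmul, Algebra.lsmul_coe, eqv_tmul, eqv_tmul, ← TensorProduct.smul_tmul,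
      algebraMap_smul, TensorProduct.smul_tmul']
  | add x y hx hy => simp only [map_add, hx, hy, smul_add]

theorem eqv_baseChange (x : D ⊗[R] G) :
    ι.baseChange (D ⊗[R] S) (eqv (R := R) S D G x) =
      eqv (R := R) S D Q ((ι.restrictScalars R).baseChange D x) := by
  induction x with
  | zero => simp
  | tmul d m =>
    rw [eqv_tmul, LinearMap.baseChange_tmul, LinearMap.baseChange_tmul, eqv_tmul]
    rfl
  | add x y hx hy => simp only [map_add, hx, hy]

theorem eqv_mem {W : Submodule D (D ⊗[R] G)} (hW : ∀ (s : S) (w : D ⊗[R] G), w ∈ W → act D G s w ∈ W)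
    (c : D ⊗[R] S) (w : D ⊗[R] G) (hw : w ∈ W) :
    (eqv (R := R) S D G).symm (c • eqv (R := R) S D G w) ∈ W := by
  induction c with
  | zero => simp
  | tmul d s =>
    have h1 : (d ⊗ₜ[R] s : D ⊗[R] S) • eqv (R := R) S D G w = d • eqv (R := R) S D G (act D G s w) := by
      rw [eqv_act, ← algebraMap_smul (D ⊗[R] S) d, smul_smul]
      congr 1
      change _ = (d ⊗ₜ[R] (1 : S)) * ((1 : D) ⊗ₜ[R] s)
      simp
    rw [h1, map_smul, LinearEquiv.symm_apply_apply]
    exact Submodule.smul_mem _ _ (hW s w hw)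
  | add x y hx hy => rw [add_smul, map_add]; exact add_mem hx hy

/-- The kernel over a Noetherian `D` is generated by finitely many elements, using the action of `S`. -/
theorem exists_finset [IsNoetherianRing D] [Algebra.FiniteType R S] [Module.Finite S G] :
    ∃ F : Set (D ⊗[R] G), F.Finite ∧ F ⊆ K (ι.restrictScalars R) D ∧
      ∀ W : Submodule D (D ⊗[R] G), (∀ (s : S) (w : D ⊗[R] G), w ∈ W → act D G s w ∈ W) →
        F ⊆ W → K (ι.restrictScalars R) D ≤ W := by
  have : IsNoetherianRing (D ⊗[R] S) := Algebra.FiniteType.isNoetherianRing D _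
  have : IsNoetherian (D ⊗[R] S) ((D ⊗[R] S) ⊗[S] G) := isNoetherian_of_isNoetherianRing_of_finite _ _
  obtain ⟨F', hF'⟩ := (LinearMap.ker (ι.baseChange (D ⊗[R] S))).fg_def.mp (IsNoetherian.noetherian _)
  refine ⟨(eqv (R := R) S D G).symm '' F', hF'.1.image _, ?_, ?_⟩
  · rintro _ ⟨x, hx, rfl⟩
    have h1 : x ∈ LinearMap.ker (ι.baseChange (D ⊗[R] S)) := hF'.2 ▸ Submodule.subset_span hx
    rw [SetLike.mem_coe, mem_K]
    have h2 := eqv_baseChange (R := R) ι D ((eqv (R := R) S D G).symm x)
    rw [LinearEquiv.apply_symm_apply, LinearMap.mem_ker.mp h1] at h2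
    exact (LinearEquiv.map_eq_zero_iff _).mp h2.symm
  · intro W hW hFW x hx
    rw [mem_K] at hx
    have h2 := eqv_baseChange (R := R) ι D x
    rw [hx, map_zero] at h2
    have h3 : eqv (R := R) S D G x ∈ Submodule.span (D ⊗[R] S) F' := by
      rw [hF'.2]
      exact LinearMap.mem_ker.mpr h2
    have h4 : ∀ z ∈ Submodule.span (D ⊗[R] S) F', (eqv (R := R) S D G).symm z ∈ W := by
      intro z hz
      induction hz using Submodule.span_induction with
      | mem z hz => exact hFW ⟨z, hz, rfl⟩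
      | zero => simp
      | add z z' _ _ hz hz' => rw [map_add]; exact add_mem hz hz'
      | smul c z _ hz =>
        have h5 := eqv_mem (R := R) D hW c _ hz
        rwa [LinearEquiv.apply_symm_apply] at h5
    have h5 := h4 _ h3
    rwa [LinearEquiv.symm_apply_apply] at h5

end

section

variable {A' κ : Type u} [CommRing A'] [Algebra R A'] [CommRing κ] [Algebra R κ]

theorem tm_act (φ : A' →ₐ[R] κ) (s : S) (x : A' ⊗[R] G) : tm G φ (act A' G s x) = act κ G s (tm G φ x) := by
  simp only [tm, act, ← LinearMap.comp_apply, LinearMap.rTensor_comp_lTensor, LinearMap.lTensor_comp_rTensor]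

theorem act_mem_K (s : S) {x : A' ⊗[R] G} (hx : x ∈ K (ι.restrictScalars R) A') :
    act A' G s x ∈ K (ι.restrictScalars R) A' := by
  rw [mem_K] at hx ⊢
  have : (ι.restrictScalars R).baseChange A' (act A' G s x) =
      act A' Q s ((ι.restrictScalars R).baseChange A' x) := by
    clear hx
    induction x with
    | zero => simp
    | tmul d m => simp
    | add x y hx hy => simp only [map_add, hx, hy]
  rw [this, hx, map_zero]

theorem act_smul (s : S) (c : κ) (x : κ ⊗[R] G) : act κ G s (c • x) = c • act κ G s x := by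
  induction x with
  | zero => simp
  | tmul d m => simp [TensorProduct.smul_tmul']
  | add x y hx hy => simp only [map_add, hx, hy, smul_add]

theorem act_mem_Sp (φ : A' →ₐ[R] κ) (s : S) {x : κ ⊗[R] G} (hx : x ∈ Sp (ι.restrictScalars R) φ) :
    act κ G s x ∈ Sp (ι.restrictScalars R) φ := by
  induction hx using Submodule.span_induction with
  | mem x hx =>
    obtain ⟨y, hy, rfl⟩ := hx
    rw [← tm_act]
    exact tm_mem_Sp _ φ (act_mem_K ι s hy)
  | zero => simp
  | add x y _ _ hx hy => rw [map_add]; exact add_mem hx hy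
  | smul c x _ hx => rw [act_smul]; exact Submodule.smul_mem _ _ hx

end

section Flat

theorem flat_range_of_equiv {D X Y X' Y' : Type u} [CommRing D] [AddCommGroup X] [Module D X]
    [AddCommGroup Y] [Module D Y] [AddCommGroup X'] [Module D X'] [AddCommGroup Y'] [Module D Y']
    (f : X →ₗ[D] Y) (f' : X' →ₗ[D] Y') (e₁ : X ≃ₗ[D] X') (e₂ : Y ≃ₗ[D] Y')
    (h : ∀ x, f' (e₁ x) = e₂ (f x)) [Module.Flat D (LinearMap.range f)] :
    Module.Flat D (LinearMap.range f') := by
  have h1 : (LinearMap.range f).map (e₂ : Y →ₗ[D] Y') = LinearMap.range f' := by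
    ext z
    constructor
    · rintro ⟨_, ⟨x, rfl⟩, rfl⟩
      exact ⟨e₁ x, h x⟩
    · rintro ⟨x', rfl⟩
      obtain ⟨x, rfl⟩ := e₁.surjective x'
      exact ⟨f x, ⟨x, rfl⟩, (h x).symm⟩
  rw [← h1]
  exact Module.Flat.of_linearEquiv (e₂.submoduleMap (LinearMap.range f)).symm

theorem flat_range_baseChange {D₀ D X Y : Type u} [CommRing D₀] [CommRing D] [Algebra D₀ D]
    [Module.Flat D₀ D]
    [AddCommGroup X] [Module D₀ X] [AddCommGroup Y] [Module D₀ Y] (f : X →ₗ[D₀] Y)
    [Module.Flat D (D ⊗[D₀] LinearMap.range f)] :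
    Module.Flat D (LinearMap.range (f.baseChange D)) := by
  let φ : D ⊗[D₀] LinearMap.range f →ₗ[D] D ⊗[D₀] Y := (LinearMap.range f).subtype.baseChange D
  have hφ : Function.Injective φ :=
    Module.Flat.lTensor_preserves_injective_linearMap (M := D) (LinearMap.range f).subtype
      (LinearMap.range f).injective_subtype
  have h1 : LinearMap.range φ = LinearMap.range (f.baseChange D) := by
    have h2 : f = (LinearMap.range f).subtype ∘ₗ f.rangeRestrict := by ext; rfl
    have h3 : f.baseChange D = φ ∘ₗ f.rangeRestrict.baseChange D := by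
      conv_lhs => rw [h2]
      rw [LinearMap.baseChange_comp]
    rw [h3, LinearMap.range_comp_of_range_eq_top]
    rw [LinearMap.range_eq_top]
    exact LinearMap.lTensor_surjective D f.surjective_rangeRestrict
  rw [← h1]
  exact Module.Flat.of_linearEquiv (LinearEquiv.ofInjective φ hφ).symm

theorem exists_flat_range_aux {D₀ T X Y : Type u} [CommRing D₀] [IsDomain D₀] [CommRing T] [Algebra D₀ T]
    [Algebra.FiniteType D₀ T] [AddCommGroup X] [AddCommGroup Y] [Module T X] [Module T Y] [Module D₀ X]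
    [Module D₀ Y] [IsScalarTower D₀ T X] [IsScalarTower D₀ T Y] [Module.Finite T X] (f : X →ₗ[T] Y) :
    ∃ a : D₀, a ≠ 0 ∧ Module.Flat (Localization.Away a)
      (LinearMap.range ((f.restrictScalars D₀).baseChange (Localization.Away a))) := by
  obtain ⟨a, ha, hfree⟩ := Groth.Agent.FlatA.GenericFree.genFree_of_finiteType (R := D₀) T (LinearMap.range f)
  refine ⟨a, ha, ?_⟩
  have h1 : Module.Free (Localization.Away a) (Localization.Away a ⊗[D₀] LinearMap.range f) :=
    hfree.free_tensor _
  have h3 : Module.Flat (Localization.Away a)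
      (Localization.Away a ⊗[D₀] LinearMap.range (f.restrictScalars D₀)) :=
    (inferInstance : Module.Flat (Localization.Away a) (Localization.Away a ⊗[D₀] LinearMap.range f))
  exact flat_range_baseChange _

/-- Generic flatness for the image of `ι`. -/
theorem exists_flat_range [Algebra.FiniteType R S] [Module.Finite S G] (P : Ideal R) [P.IsPrime] :
    ∃ f : R ⧸ P, f ≠ 0 ∧
      Module.Flat (Localization.Away f)
        (LinearMap.range ((ι.restrictScalars R).baseChange (Localization.Away f))) := by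
  let D₀ := R ⧸ P
  let f₁ : (D₀ ⊗[R] S) ⊗[S] G →ₗ[D₀] (D₀ ⊗[R] S) ⊗[S] Q := (ι.baseChange (D₀ ⊗[R] S)).restrictScalars D₀
  obtain ⟨f, hf, h4⟩ := exists_flat_range_aux (D₀ := D₀) (T := D₀ ⊗[R] S) (X := (D₀ ⊗[R] S) ⊗[S] G)
    (Y := (D₀ ⊗[R] S) ⊗[S] Q) (ι.baseChange (D₀ ⊗[R] S))
  refine ⟨f, hf, ?_⟩
  let D := Localization.Away f
  refine flat_range_of_equiv (f₁.baseChange D) _
    ((AlgebraTensorModule.congr (LinearEquiv.refl D D) (eqv (R := R) S D₀ G).symm).trans
      (AlgebraTensorModule.cancelBaseChange R D₀ D D G))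
    ((AlgebraTensorModule.congr (LinearEquiv.refl D D) (eqv (R := R) S D₀ Q).symm).trans
      (AlgebraTensorModule.cancelBaseChange R D₀ D D Q)) ?_
  intro x
  induction x with
  | zero => simp
  | add x y hx hy => simp only [map_add, hx, hy]
  | tmul d z =>
    obtain ⟨w, rfl⟩ := (eqv (R := R) S D₀ G).surjective z
    have h5 : f₁ (eqv (R := R) S D₀ G w) = eqv (R := R) S D₀ Q ((ι.restrictScalars R).baseChange D₀ w) :=
      eqv_baseChange ι D₀ w
    simp only [LinearMap.baseChange_tmul, LinearEquiv.trans_apply, AlgebraTensorModule.congr_tmul,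
      LinearEquiv.refl_apply, LinearEquiv.symm_apply_apply, h5]
    induction w with
    | zero => simp
    | tmul a m => simp
    | add w w' hw hw' =>
      simp only [TensorProduct.tmul_add, map_add] at hw hw' ⊢
      rw [hw (eqv_baseChange ι D₀ w), hw' (eqv_baseChange ι D₀ w')]

end Flat

section Main

variable {A : Type u} [CommRing A] [Algebra R A]

theorem exists_stage_stratum [IsNoetherianRing R] [Algebra.FiniteType R S] [Module.Finite S G]
    (g : Q →ₗ[R] C) (hex : Function.Exact ι g) (hg : Function.Surjective g)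
    (H : ∀ (D : Type u) [CommRing D] [Algebra R D],
      Module.Flat D (LinearMap.range ((ι.restrictScalars R).baseChange D)) → Module.Flat D (D ⊗[R] C))
    [Module.Flat A (A ⊗[R] C)] (P : Ideal R) [P.IsPrime] :
    ∃ f : R, f ∉ P ∧ ∃ B : Subalgebra R A, B.FG ∧ ∀ (κ : Type u) [CommRing κ] [Algebra R κ] (β : B →ₐ[R] κ),
      (∀ a ∈ P, algebraMap R κ a = 0) → IsUnit (algebraMap R κ f) → Cov (ι.restrictScalars R) β := by
  obtain ⟨f, hf, hflat⟩ := exists_flat_range (R := R) ι P
  obtain ⟨f, rfl⟩ := Ideal.Quotient.mk_surjective f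
  let D := Localization.Away (Ideal.Quotient.mk P f)
  have hfP : f ∉ P := fun h => hf (Ideal.Quotient.eq_zero_iff_mem.mpr h)
  have hD : IsNoetherianRing D := IsLocalization.isNoetherianRing (Submonoid.powers (Ideal.Quotient.mk P f)) D
    (isNoetherianRing_of_surjective R (R ⧸ P) (Ideal.Quotient.mk P) Ideal.Quotient.mk_surjective)
  have hDC : Module.Flat D (D ⊗[R] C) := H D hflat
  obtain ⟨F, hFfin, hFK, hF⟩ := exists_finset (R := R) ι D
  have hex' : Function.Exact (ι.restrictScalars R) g := hex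
  have hstage : ∃ B : Subalgebra R A, B.FG ∧ ∀ (κ : Type u) [CommRing κ] [Algebra R κ] (β : B →ₐ[R] κ)
      (δ : D →ₐ[R] κ), ∀ n ∈ F, tm G δ n ∈ Sp (ι.restrictScalars R) β := by
    clear hF
    induction F, hFfin using Set.Finite.induction_on with
    | empty => exact ⟨⊥, Subalgebra.fg_bot, fun _ _ _ _ _ n hn => absurd hn (Set.notMem_empty _)⟩
    | @insert n F _ _ ih =>
      obtain ⟨B₁, hB₁, h₁⟩ := ih fun x hx => hFK (Set.mem_insert_of_mem _ hx)
      obtain ⟨B₂, hB₂, h₂⟩ := exists_stage (A := A) (ι.restrictScalars R) g hex' hg n (hFK (Set.mem_insert _ _))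
      refine ⟨B₁ ⊔ B₂, hB₁.sup hB₂, fun κ _ _ β δ m hm => ?_⟩
      rcases hm with rfl | hm
      · exact Sp_comp_le _ _ _ (h₂ κ (β.comp (Subalgebra.inclusion le_sup_right)) δ)
      · exact Sp_comp_le _ _ _ (h₁ κ (β.comp (Subalgebra.inclusion le_sup_left)) δ m hm)
  obtain ⟨B, hB, hBF⟩ := hstage
  refine ⟨f, hfP, B, hB, fun κ _ _ β hP hfu => ?_⟩
  -- the map `D → κ`
  let δ₀ : (R ⧸ P) →ₐ[R] κ := Ideal.Quotient.liftₐ P (Algebra.ofId R κ) hP
  have hu : IsUnit (δ₀.toRingHom (Ideal.Quotient.mk P f)) := hfu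
  let δ₁ : D →+* κ := IsLocalization.Away.lift (Ideal.Quotient.mk P f) hu
  let δ : D →ₐ[R] κ := ⟨δ₁, by
    intro r
    change δ₁ (algebraMap R D r) = _
    rw [IsScalarTower.algebraMap_apply R (R ⧸ P) D]
    rw [IsLocalization.Away.lift_eq]
    rfl⟩
  have h1 : Cov (ι.restrictScalars R) δ := cov_of_flat _ g hex' hg δ
  refine le_trans h1 ?_
  rw [Sp, Submodule.span_le]
  rintro _ ⟨x, hx, rfl⟩
  let W : Submodule D (D ⊗[R] G) :=
    { carrier := {w | tm G δ w ∈ Sp (ι.restrictScalars R) β}
      add_mem' := fun {a b} ha hb => by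
        change tm G δ (a + b) ∈ Sp (ι.restrictScalars R) β
        rw [map_add]
        exact add_mem ha hb
      zero_mem' := by
        change tm G δ 0 ∈ Sp (ι.restrictScalars R) β
        rw [map_zero]
        exact zero_mem _
      smul_mem' := fun c w hw => by
        change tm G δ (c • w) ∈ Sp (ι.restrictScalars R) β
        rw [tm_smul]
        exact Submodule.smul_mem _ _ hw }
  exact hF W (fun s w hw => by
    change tm G δ (act D G s w) ∈ Sp (ι.restrictScalars R) β
    rw [tm_act]
    exact act_mem_Sp ι β s hw) (fun n hn => hBF κ β δ n hn) hx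

/-- A finitely generated subalgebra which generates the kernels over all residue fields. -/
theorem exists_stage_field [IsNoetherianRing R] [Algebra.FiniteType R S] [Module.Finite S G]
    (g : Q →ₗ[R] C) (hex : Function.Exact ι g) (hg : Function.Surjective g)
    (H : ∀ (D : Type u) [CommRing D] [Algebra R D],
      Module.Flat D (LinearMap.range ((ι.restrictScalars R).baseChange D)) → Module.Flat D (D ⊗[R] C))
    [Module.Flat A (A ⊗[R] C)] :
    ∃ B : Subalgebra R A, B.FG ∧ ∀ (κ : Type u) [Field κ] [Algebra R κ] (β : B →ₐ[R] κ),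
      Cov (ι.restrictScalars R) β := by
  have key : ∀ I : Ideal R, ∃ B : Subalgebra R A, B.FG ∧ ∀ (κ : Type u) [Field κ] [Algebra R κ]
      (β : B →ₐ[R] κ), (∀ a ∈ I, algebraMap R κ a = 0) → Cov (ι.restrictScalars R) β := by
    intro I
    induction I using IsNoetherian.induction with
    | hgt I ih =>
      by_cases hI : I = ⊤
      · subst hI
        exact ⟨⊥, Subalgebra.fg_bot, fun κ _ _ β h => absurd (h 1 trivial) (by simp)⟩
      by_cases hp : Ideal.IsPrime I
      · obtain ⟨f, hf, B₁, hB₁, h₁⟩ := exists_stage_stratum (A := A) ι g hex hg H I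
        have hlt : I < I ⊔ Ideal.span {f} := by
          refine lt_of_le_of_ne le_sup_left fun h => hf ?_
          rw [h]
          exact Ideal.mem_sup_right (Ideal.mem_span_singleton_self f)
        obtain ⟨B₂, hB₂, h₂⟩ := ih _ hlt
        refine ⟨B₁ ⊔ B₂, hB₁.sup hB₂, fun κ _ _ β h => ?_⟩
        by_cases hfk : algebraMap R κ f = 0
        · refine Cov.of_comp (φ := Subalgebra.inclusion (le_sup_right : B₂ ≤ B₁ ⊔ B₂)) (h₂ κ _ ?_)
          have h3 : I ⊔ Ideal.span {f} ≤ RingHom.ker (algebraMap R κ) := by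
            rw [sup_le_iff, Ideal.span_singleton_le_iff_mem]
            exact ⟨fun a ha => h a ha, hfk⟩
          exact fun a ha => h3 ha
        · exact Cov.of_comp (φ := Subalgebra.inclusion (le_sup_left : B₁ ≤ B₁ ⊔ B₂))
            (h₁ κ _ h (isUnit_iff_ne_zero.mpr hfk))
      · rw [Ideal.isPrime_iff] at hp
        push Not at hp
        obtain ⟨a, b, hab, ha, hb⟩ := hp hI
        have hlt : ∀ c : R, c ∉ I → I < I ⊔ Ideal.span {c} := fun c hc => by
          refine lt_of_le_of_ne le_sup_left fun h => hc ?_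
          rw [h]
          exact Ideal.mem_sup_right (Ideal.mem_span_singleton_self c)
        obtain ⟨B₁, hB₁, h₁⟩ := ih _ (hlt a ha)
        obtain ⟨B₂, hB₂, h₂⟩ := ih _ (hlt b hb)
        refine ⟨B₁ ⊔ B₂, hB₁.sup hB₂, fun κ _ _ β h => ?_⟩
        have hab' : algebraMap R κ a * algebraMap R κ b = 0 := by rw [← map_mul]; exact h _ hab
        rcases mul_eq_zero.mp hab' with h0 | h0
        · refine Cov.of_comp (φ := Subalgebra.inclusion (le_sup_left : B₁ ≤ B₁ ⊔ B₂)) (h₁ κ _ ?_)
          have h3 : I ⊔ Ideal.span {a} ≤ RingHom.ker (algebraMap R κ) := by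
            rw [sup_le_iff, Ideal.span_singleton_le_iff_mem]
            exact ⟨fun a ha => h a ha, h0⟩
          exact fun a ha => h3 ha
        · refine Cov.of_comp (φ := Subalgebra.inclusion (le_sup_right : B₂ ≤ B₁ ⊔ B₂)) (h₂ κ _ ?_)
          have h3 : I ⊔ Ideal.span {b} ≤ RingHom.ker (algebraMap R κ) := by
            rw [sup_le_iff, Ideal.span_singleton_le_iff_mem]
            exact ⟨fun a ha => h a ha, h0⟩
          exact fun a ha => h3 ha
  obtain ⟨B, hB, h⟩ := key ⊥
  exact ⟨B, hB, fun κ _ _ β => h κ β fun a ha => by rw [Ideal.mem_bot.mp ha, map_zero]⟩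

end Main

end K121.Gr
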