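import Groth.Agent.S0387
import Groth.Agent.Flat2B.FlatLocusAux

/-!
# Openness on the source of an intermediate ring of the flat locus of a module
-/

set_option autoImplicit false
universe u

namespace K121.OpenBase

open Groth.Agent.Flat2B.FlatLocusAux

/-- Flatness of `M_q` for `q` a prime of `B` and `M` a `C`-module in terms of the primes of `C`. -/
theorem flat_localizedModule_iff {A B C : Type u} [CommRing A] [CommRing B] [CommRing C]
    [Algebra A B] [Algebra B C] [Algebra A C] [IsScalarTower A B C]
    (M : Type u) [AddCommGroup M] [Module C M] [Module B M] [Module A M]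
    [IsScalarTower B C M] [IsScalarTower A C M] [IsScalarTower A B M] (q : Ideal B) [q.IsPrime] :
    Module.Flat A (LocalizedModule q.primeCompl M) ↔
      ∀ r : Ideal C, ∀ _ : r.IsPrime, r.comap (algebraMap B C) ≤ q →
        Module.Flat A (LocalizedModule r.primeCompl M) := by
  let W := Algebra.algebraMapSubmonoid C q.primeCompl
  let f : M →ₗ[C] LocalizedModule W M := LocalizedModule.mkLinearMap W M
  have h1 : IsLocalizedModule q.primeCompl (f.restrictScalars B) :=
    IsLocalizedModule.restrictScalars q.primeCompl f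
  let e : LocalizedModule q.primeCompl M ≃ₗ[A] LocalizedModule W M :=
    (IsLocalizedModule.iso q.primeCompl (f.restrictScalars B)).restrictScalars A
  have hW : ∀ r : Ideal C, ∀ _ : r.IsPrime, (W ≤ r.primeCompl ↔ r.comap (algebraMap B C) ≤ q) := by
    intro r hr
    constructor
    · intro h b hb
      by_contra hbq
      exact h ⟨b, hbq, rfl⟩ hb
    · rintro h _ ⟨b, hb, rfl⟩ hmem
      exact hb (h hmem)
  constructor
  · intro hflat r hr hle
    have h2 : Module.Flat A (LocalizedModule W M) := Module.Flat.of_linearEquiv e.symm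
    exact flat_of_isLocalizedModule_source r.primeCompl
      (LocalizedModule.liftOfLE W r.primeCompl ((hW r hr).mpr hle) (M := M))
  · intro h
    have h2 : Module.Flat A (LocalizedModule W M) :=
      flat_localizedModule_of_flatAt M W fun r hr hle => h r hr ((hW r hr).mp hle)
    exact Module.Flat.of_linearEquiv e

theorem isOpen_of_isOpen {B C : Type u} [CommRing B] [CommRing C] [Algebra B C] (U : Set (PrimeSpectrum C))
    (hU : IsOpen U) :
    IsOpen {q : PrimeSpectrum B | ∀ r : PrimeSpectrum C, r.asIdeal.comap (algebraMap B C) ≤ q.asIdeal → r ∈ U} := by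
  obtain ⟨J, hJ⟩ := (PrimeSpectrum.isClosed_iff_zeroLocus_ideal _).mp hU.isClosed_compl
  rw [← isClosed_compl_iff, PrimeSpectrum.isClosed_iff_zeroLocus_ideal]
  refine ⟨J.comap (algebraMap B C), ?_⟩
  ext q
  constructor
  · intro hq
    simp only [Set.mem_compl_iff, Set.mem_ofPred_eq, not_forall] at hq
    obtain ⟨r, hr, hrU⟩ := hq
    have h4 : r ∈ Uᶜ := hrU
    rw [hJ] at h4
    exact fun b hb => hr (h4 hb)
  · intro hq
    have hdisj : Disjoint (J : Set C) (Algebra.algebraMapSubmonoid C q.asIdeal.primeCompl : Set C) := by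
      rw [Set.disjoint_left]
      rintro _ hx ⟨b, hb, rfl⟩
      exact hb (hq hx)
    obtain ⟨r, hr, hJr, hrd⟩ := Ideal.exists_le_prime_disjoint J _ hdisj
    simp only [Set.mem_compl_iff, Set.mem_ofPred_eq, not_forall]
    refine ⟨⟨r, hr⟩, ?_, ?_⟩
    · intro b hb
      by_contra hbq
      exact Set.disjoint_left.mp hrd hb ⟨b, hbq, rfl⟩
    · intro hmem
      have h4 : (⟨r, hr⟩ : PrimeSpectrum C) ∈ Uᶜ := by
        rw [hJ]
        exact hJr
      exact h4 hmem

theorem isOpen_setOf_localizedModule_flat {A B C : Type u} [CommRing A] [CommRing B] [CommRing C]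
    [Algebra A B] [Algebra B C] [Algebra A C] [IsScalarTower A B C] [Algebra.FinitePresentation A C]
    (M : Type u) [AddCommGroup M] [Module C M] [Module B M] [Module A M]
    [IsScalarTower B C M] [IsScalarTower A C M] [IsScalarTower A B M] [Module.FinitePresentation C M] :
    IsOpen {q : PrimeSpectrum B | Module.Flat A (LocalizedModule q.asIdeal.primeCompl M)} := by
  have h := isOpen_of_isOpen (B := B) _ (Groth.Agent.S0387.result (R := A) (S := C) (M := M))
  convert h using 1
  ext q
  simp only [Set.mem_ofPred_eq]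
  rw [flat_localizedModule_iff (C := C) M q.asIdeal]
  exact ⟨fun h r hr => h r.asIdeal r.isPrime hr, fun h r hr hle => h ⟨r, hr⟩ hle⟩

end K121.OpenBase
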