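import Mathlib.LinearAlgebra.TensorProduct.Basic
import Mathlib.LinearAlgebra.DirectSum.Finsupp
import Mathlib.Algebra.Module.Projective

/-!
# Joint injectivity is preserved by tensoring with a projective module
-/

set_option autoImplicit false

open TensorProduct

namespace K121.ProjSep

/-- If the kernels of the `u i` meet in zero, so do the kernels of the `u i ⊗ N`, `N` projective. -/
theorem eq_zero_of_projective {A : Type*} [CommRing A] {M : Type*} [AddCommGroup M] [Module A M] {ι : Type*}
    (M' : ι → Type*) [∀ i, AddCommGroup (M' i)] [∀ i, Module A (M' i)] (u : ∀ i, M →ₗ[A] M' i)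
    (hu : ∀ m : M, (∀ i, u i m = 0) → m = 0)
    (N : Type*) [AddCommGroup N] [Module A N] [Module.Projective A N] (x : M ⊗[A] N)
    (hx : ∀ i, (u i).rTensor N x = 0) : x = 0 := by
  classical
  obtain ⟨s, hs⟩ := Module.Projective.out (R := A) (P := N)
  have hπ : Finsupp.linearCombination A (id : N → N) ∘ₗ s = LinearMap.id := by
    ext n; exact hs n
  have key : s.lTensor M x = 0 := by
    apply (finsuppScalarRight A A M N).injective
    rw [map_zero]
    ext n
    rw [finsuppScalarRight_apply]
    refine hu _ fun i => ?_
    have h1 : (u i) ∘ₗ (AlgebraTensorModule.rid A A M).toLinearMap ∘ₗ (Finsupp.lapply n).lTensor M ∘ₗ s.lTensor M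
        = (AlgebraTensorModule.rid A A (M' i)).toLinearMap ∘ₗ (Finsupp.lapply n).lTensor (M' i) ∘ₗ
          s.lTensor (M' i) ∘ₗ (u i).rTensor N := by
      ext a b
      simp
    have h2 := DFunLike.congr_fun h1 x
    simp only [LinearMap.comp_apply, hx i, map_zero] at h2
    exact h2
  have h2 : (Finsupp.linearCombination A (id : N → N)).lTensor M (s.lTensor M x) = x := by
    rw [← LinearMap.comp_apply, ← LinearMap.lTensor_comp, hπ, LinearMap.lTensor_id, LinearMap.id_apply]
  rw [← h2, key, map_zero]

/-- The same with the projective module on the left. -/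
theorem eq_zero_of_projective_left {A : Type*} [CommRing A] {M : Type*} [AddCommGroup M] [Module A M] {ι : Type*}
    (M' : ι → Type*) [∀ i, AddCommGroup (M' i)] [∀ i, Module A (M' i)] (u : ∀ i, M →ₗ[A] M' i)
    (hu : ∀ m : M, (∀ i, u i m = 0) → m = 0)
    (N : Type*) [AddCommGroup N] [Module A N] [Module.Projective A N] (x : N ⊗[A] M)
    (hx : ∀ i, (u i).lTensor N x = 0) : x = 0 := by
  apply (TensorProduct.comm A N M).injective
  rw [map_zero]
  refine eq_zero_of_projective M' u hu N _ fun i => ?_
  have h1 : (u i).rTensor N ∘ₗ (TensorProduct.comm A N M).toLinearMap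
      = (TensorProduct.comm A N (M' i)).toLinearMap ∘ₗ (u i).lTensor N := by
    ext a b
    simp
  have h2 := DFunLike.congr_fun h1 x
  simp only [LinearMap.comp_apply, hx i, map_zero] at h2
  exact h2

end K121.ProjSep
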