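import Groth.Agent.EGA43.K121.SepNoeth
import Groth.Agent.Ega43.FlatKer

/-!
# Separating families and flat finitely presented base change

`eq_zero_of_flat_fp`: a family `v j : N → N' j` of `A`-linear maps that is jointly injective after
every localization stays jointly injective after tensoring with a flat `A`-module which is finitely
presented over a finitely presented `A`-algebra. No finiteness on `N`, `N' j` or the index set.
-/

set_option autoImplicit false
universe u

open TensorProduct

namespace K121.Sep

open Groth.Agent Groth.Agent.FlatA.FlatDescent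

theorem eq_zero_of_flat_fp {A B M : Type u} [CommRing A] [CommRing B] [Algebra A B]
    [Algebra.FinitePresentation A B] [AddCommGroup M] [Module B M] [Module A M] [IsScalarTower A B M]
    [Module.FinitePresentation B M] [Module.Flat A M] {N : Type*} [AddCommGroup N] [Module A N] {J : Type*}
    {N' : J → Type*} [∀ j, AddCommGroup (N' j)] [∀ j, Module A (N' j)] (v : ∀ j, N →ₗ[A] N' j) (hv : LJI v)
    (y : M ⊗[A] N) (hy : ∀ j, (v j).lTensor M y = 0) : y = 0 := by
  obtain ⟨R₀, S₀, M₀, _, _, _, _, _, _, _, _, _, _, g, hR₀, hpush, hS₀, hM₀, hg, hflat⟩ :=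
    Ega43.FlatKer.exists_model_flat_global (R := A) (S := B) (M := M)
  have : Algebra.FiniteType ℤ R₀ := R₀.fg_iff_finiteType.mp hR₀
  have : IsNoetherianRing R₀ := Algebra.FiniteType.isNoetherianRing ℤ R₀
  have : IsScalarTower R₀ S₀ M := by
    refine IsScalarTower.of_algebraMap_smul fun r x ↦ ?_
    rw [← algebraMap_smul B (algebraMap R₀ S₀ r) x, ← IsScalarTower.algebraMap_apply R₀ S₀ B,
      IsScalarTower.algebraMap_apply R₀ A B, algebraMap_smul, algebraMap_smul]
  have hbc : IsBaseChange A (g.restrictScalars R₀) := isBaseChange_restrictScalars (R := A) g hg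
  let e : A ⊗[R₀] M₀ ≃ₗ[A] M := hbc.equiv
  let w : ∀ j, N →ₗ[R₀] N' j := fun j => (v j).restrictScalars R₀
  have hw : LJI w := fun f n hn => hv (f : A) n hn
  let E : M ⊗[A] N ≃ₗ[R₀] M₀ ⊗[R₀] N :=
    ((TensorProduct.congr e.symm (LinearEquiv.refl A N)).restrictScalars R₀).trans (cancel R₀ A M₀ N)
  let E' : ∀ j, M ⊗[A] N' j ≃ₗ[R₀] M₀ ⊗[R₀] N' j := fun j =>
    ((TensorProduct.congr e.symm (LinearEquiv.refl A (N' j))).restrictScalars R₀).trans (cancel R₀ A M₀ (N' j))
  have hE : ∀ j (x : M ⊗[A] N), E' j ((v j).lTensor M x) = (w j).lTensor M₀ (E x) := by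
    intro j x
    have h1 : (TensorProduct.congr e.symm (LinearEquiv.refl A (N' j))) ((v j).lTensor M x) =
        (v j).lTensor (A ⊗[R₀] M₀) ((TensorProduct.congr e.symm (LinearEquiv.refl A N)) x) := by
      induction x using TensorProduct.induction_on with
      | zero => simp
      | add a b ha hb => simp only [map_add, ha, hb]
      | tmul a b => simp
    change cancel R₀ A M₀ (N' j) ((TensorProduct.congr e.symm (LinearEquiv.refl A (N' j))) ((v j).lTensor M x)) = _
    rw [h1, cancel_lTensor]
    rfl
  apply E.injective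
  rw [map_zero]
  refine eq_zero_of_noetherian (A := R₀) (B := S₀) w hw _ fun j => ?_
  rw [← hE, hy j, map_zero]

end K121.Sep
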