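import Groth.Agent.EGA43.K121.ProjSep
import Groth.Agent.FlatA.GenericFree2
import Mathlib.RingTheory.Ideal.AssociatedPrime.Basic
import Mathlib.Algebra.Module.Torsion.Basic
import Mathlib.LinearAlgebra.TensorProduct.Pi

/-!
# Separating families of module maps and flat base change along finitely presented algebras

* `LJI v` : the family of `A`-linear maps `v j : N → N' j` is jointly injective after every
  localization at one element, in the element-wise form allowing exponents depending on `j`.
* `eq_zero_of_noetherian`: if `A` is Noetherian, `B` of finite type over `A` and `M` a finite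
  `B`-module flat over `A`, then `M ⊗ v j` is jointly injective.
-/

set_option autoImplicit false

open TensorProduct

namespace K121.Sep

open Groth.Agent.FlatA.GenericFree

/-- localized joint injectivity of a family of linear maps -/
def LJI {A : Type*} [CommRing A] {N : Type*} [AddCommGroup N] [Module A N] {J : Type*} {N' : J → Type*}
    [∀ j, AddCommGroup (N' j)] [∀ j, Module A (N' j)] (v : ∀ j, N →ₗ[A] N' j) : Prop :=
  ∀ (f : A) (n : N), (∀ j, ∃ k : ℕ, f ^ k • v j n = 0) → ∃ k : ℕ, f ^ k • n = 0

theorem LJI.eq_zero {A : Type*} [CommRing A] {N : Type*} [AddCommGroup N] [Module A N] {J : Type*} {N' : J → Type*}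
    [∀ j, AddCommGroup (N' j)] [∀ j, Module A (N' j)] {v : ∀ j, N →ₗ[A] N' j} (h : LJI v) (n : N)
    (hn : ∀ j, v j n = 0) : n = 0 := by
  obtain ⟨k, hk⟩ := h 1 n fun j => ⟨0, by rw [hn j, smul_zero]⟩
  simpa using hk

/-- Joint injectivity up to `f`-power torsion is preserved by tensoring with a module that is free
after inverting `f`. -/
theorem exists_pow_smul_eq_zero {R : Type*} [CommRing R] {N M : Type*} [AddCommGroup N] [Module R N]
    [AddCommGroup M] [Module R M] (f : R) (hM : FreeAway R M f) {J : Type*} {N' : J → Type*}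
    [∀ j, AddCommGroup (N' j)] [∀ j, Module R (N' j)] (v : ∀ j, N →ₗ[R] N' j)
    (hv : ∀ n : N, (∀ j, ∃ k : ℕ, f ^ k • v j n = 0) → ∃ k : ℕ, f ^ k • n = 0) (y : M ⊗[R] N)
    (hy : ∀ j, (v j).lTensor M y = 0) : ∃ k : ℕ, f ^ k • y = 0 := by
  let S := Submonoid.powers f
  let Rf := Localization S
  let φM := LocalizedModule.mkLinearMap S M
  let φN := LocalizedModule.mkLinearMap S N
  let φN' := fun j => LocalizedModule.mkLinearMap S (N' j)
  have hfree : Module.Free Rf (LocalizedModule S M) := hM.free Rf φM
  have h1 : TensorProduct.map φM φN y = 0 := by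
    let e := IsLocalization.moduleTensorEquiv S Rf (LocalizedModule S M) (LocalizedModule S N)
    let e' := fun j => IsLocalization.moduleTensorEquiv S Rf (LocalizedModule S M) (LocalizedModule S (N' j))
    let w : ∀ j, LocalizedModule S N →ₗ[Rf] LocalizedModule S (N' j) := fun j =>
      (IsLocalizedModule.mapExtendScalars S φN (φN' j) Rf) (v j)
    apply e.symm.injective
    rw [map_zero]
    have hw : ∀ j n, w j (φN n) = φN' j (v j n) := fun j n => IsLocalizedModule.map_apply S φN (φN' j) (v j) n
    refine ProjSep.eq_zero_of_projective_left (A := Rf) _ w ?_ _ _ ?_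
    · intro m hm
      obtain ⟨⟨n, s⟩, hs⟩ := IsLocalizedModule.surj S φN m
      have hs' : (s : R) • m = φN n := hs
      have h2 : ∃ k : ℕ, f ^ k • n = 0 := by
        refine hv n fun j => ?_
        have h3 : φN' j (v j n) = 0 := by
          rw [← hw, ← hs']
          have : w j ((s : R) • m) = (s : R) • w j m := ((w j).restrictScalars R).map_smul (s : R) m
          rw [this, hm j, smul_zero]
        obtain ⟨c, hc⟩ := (IsLocalizedModule.eq_zero_iff S (φN' j)).mp h3
        obtain ⟨k, hk⟩ := c.2
        exact ⟨k, by rw [← hc]; exact congrArg (· • v j n) hk⟩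
      obtain ⟨k, hk⟩ := h2
      have h4 : φN n = 0 := (IsLocalizedModule.eq_zero_iff S φN).mpr ⟨⟨f ^ k, ⟨k, rfl⟩⟩, hk⟩
      have h5 : (s : R) • m = 0 := hs'.trans h4
      have h6 : s • m = s • (0 : LocalizedModule S N) := by
        rw [smul_zero]
        exact h5
      exact IsLocalizedModule.smul_injective φN s h6
    · intro j
      apply (e' j).injective
      rw [map_zero]
      have h2 : ∀ z, e' j ((w j).lTensor (LocalizedModule S M) z) =
          ((w j).restrictScalars R).lTensor (LocalizedModule S M) (e z) := by
        intro z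
        induction z using TensorProduct.induction_on with
        | zero => simp
        | add a b ha hb => simp only [map_add, ha, hb]
        | tmul a b => rfl
      rw [h2, LinearEquiv.apply_symm_apply]
      have h3 : ∀ x : M ⊗[R] N, ((w j).restrictScalars R).lTensor (LocalizedModule S M) (TensorProduct.map φM φN x) =
          TensorProduct.map φM (φN' j) ((v j).lTensor M x) := by
        intro x
        induction x using TensorProduct.induction_on with
        | zero => simp
        | add a b ha hb => simp only [map_add, ha, hb]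
        | tmul a b =>
          simp only [TensorProduct.map_tmul, LinearMap.lTensor_tmul, LinearMap.restrictScalars_apply, hw]
      rw [h3, hy j, map_zero]
  obtain ⟨s, hs⟩ := (IsLocalizedModule.eq_zero_iff S (TensorProduct.map φM φN)).mp h1
  obtain ⟨k, hk⟩ := s.2
  exact ⟨k, by rw [← hs]; congr 1⟩

/-- Elements of `M ⊗ N` killed by a finitely generated ideal `p` come from `M ⊗ N[p]`, `M` flat. -/
theorem mem_range_of_smul_eq_zero {A : Type*} [CommRing A] {M N : Type*} [AddCommGroup M] [Module A M]
    [AddCommGroup N] [Module A N] [Module.Flat A M] (p : Ideal A) (hp : p.FG) (y : M ⊗[A] N)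
    (hy : ∀ a ∈ p, a • y = 0) :
    ∃ z : M ⊗[A] (Submodule.torsionBySet A N p), (Submodule.torsionBySet A N p).subtype.lTensor M z = y := by
  classical
  obtain ⟨r, a, ha⟩ := Submodule.fg_iff_exists_fin_generating_family.mp hp
  let φ : N →ₗ[A] (Fin r → N) := LinearMap.pi fun l => a l • LinearMap.id
  have hex : Function.Exact (Submodule.torsionBySet A N p).subtype φ := by
    intro n
    have hr : n ∈ Set.range (Submodule.torsionBySet A N p).subtype ↔
      n ∈ Submodule.torsionBySet A N p := by simp
    rw [hr, Submodule.mem_torsionBySet_iff]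
    constructor
    · intro h b
      have h1 : ∀ x ∈ Submodule.span A (Set.range a), x • n = 0 := by
        intro x hx
        induction hx using Submodule.span_induction with
        | mem x hx =>
          obtain ⟨l, rfl⟩ := hx
          exact congrFun h l
        | zero => rw [zero_smul]
        | add x y _ _ hx hy => rw [add_smul, hx, hy, add_zero]
        | smul c x _ hx => rw [smul_assoc, hx, smul_zero]
      exact h1 b (by rw [ha]; exact b.2)
    · intro h
      funext l
      exact h ⟨a l, by rw [← ha]; exact Submodule.subset_span ⟨l, rfl⟩⟩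
  have h1 := Module.Flat.lTensor_exact M hex
  refine (h1 y).mp ?_
  apply (TensorProduct.piRight A A M (fun _ : Fin r => N)).injective
  rw [map_zero]
  have h2 : ∀ x : M ⊗[A] N, TensorProduct.piRight A A M (fun _ : Fin r => N) (φ.lTensor M x) =
      fun l => a l • x := by
    intro x
    induction x using TensorProduct.induction_on with
    | zero => simp; rfl
    | add x y hx hy =>
      simp only [map_add, hx, hy]
      funext l
      simp
    | tmul m n =>
      rw [LinearMap.lTensor_tmul, TensorProduct.piRight_apply, TensorProduct.piRightHom_tmul]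
      funext l
      simp [φ]
  rw [h2]
  funext l
  exact hy _ (by rw [← ha]; exact Submodule.subset_span ⟨l, rfl⟩)

theorem FreeAway.of_equiv {R : Type*} [CommRing R] [Nontrivial R] {M M' : Type*} [AddCommGroup M] [Module R M]
    [AddCommGroup M'] [Module R M'] (e : M ≃ₗ[R] M') {f : R} (h : FreeAway R M f) : FreeAway R M' f := by
  obtain ⟨s, hs, hs'⟩ := h
  have hs1 : LinearIndependent R ((↑) : s → M) := hs
  refine FreeAway.of_family (fun x : s => e x) (hs1.map' e.toLinearMap (LinearMap.ker_eq_bot.mpr e.injective)) ?_
  intro m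
  obtain ⟨k, hk⟩ := hs' (e.symm m)
  refine ⟨k, ?_⟩
  have h1 := Submodule.mem_map_of_mem (f := e.toLinearMap) hk
  rw [Submodule.map_span] at h1
  have h2 : (Set.range fun x : s => e x) = e.toLinearMap '' s := by
    ext y
    simp
  rw [h2]
  simpa using h1

/-- `(A/p ⊗ M) ⊗_{A/p} T = M ⊗ T`. -/
noncomputable def cancel (A R : Type*) [CommRing A] [CommRing R] [Algebra A R] (M T : Type*) [AddCommGroup M]
    [Module A M] [AddCommGroup T] [Module A T] [Module R T] [IsScalarTower A R T] :
    (R ⊗[A] M) ⊗[R] T ≃ₗ[A] M ⊗[A] T :=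
  ((TensorProduct.comm R (R ⊗[A] M) T).restrictScalars A).trans
    (((AlgebraTensorModule.cancelBaseChange A R R T M).restrictScalars A).trans (TensorProduct.comm A T M))

theorem cancel_tmul (A R : Type*) [CommRing A] [CommRing R] [Algebra A R] (M T : Type*) [AddCommGroup M]
    [Module A M] [AddCommGroup T] [Module A T] [Module R T] [IsScalarTower A R T] (r : R) (m : M) (t : T) :
    cancel A R M T ((r ⊗ₜ m) ⊗ₜ t) = m ⊗ₜ (r • t) := by
  simp [cancel]

theorem cancel_lTensor (A R : Type*) [CommRing A] [CommRing R] [Algebra A R] (M : Type*) {T T' : Type*}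
    [AddCommGroup M] [Module A M] [AddCommGroup T] [Module A T] [Module R T] [IsScalarTower A R T]
    [AddCommGroup T'] [Module A T'] [Module R T'] [IsScalarTower A R T'] (u : T →ₗ[R] T')
    (w : (R ⊗[A] M) ⊗[R] T) :
    cancel A R M T' (u.lTensor (R ⊗[A] M) w) = (u.restrictScalars A).lTensor M (cancel A R M T w) := by
  induction w using TensorProduct.induction_on with
  | zero => simp
  | add a b ha hb => simp only [map_add, ha, hb]
  | tmul a t =>
    induction a using TensorProduct.induction_on with
    | zero => simp
    | add a b ha hb => simp only [map_add, TensorProduct.add_tmul, ha, hb]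
    | tmul r m =>
      rw [LinearMap.lTensor_tmul, cancel_tmul, cancel_tmul, LinearMap.lTensor_tmul,
        LinearMap.restrictScalars_apply, map_smul]

attribute [local instance] Algebra.TensorProduct.rightAlgebra in
/-- **Noetherian case of flat base change of separating families.** -/
theorem eq_zero_of_noetherian {A B M : Type*} [CommRing A] [IsNoetherianRing A] [CommRing B] [Algebra A B]
    [Algebra.FiniteType A B] [AddCommGroup M] [Module B M] [Module A M] [IsScalarTower A B M]
    [Module.Finite B M] [Module.Flat A M] {N : Type*} [AddCommGroup N] [Module A N] {J : Type*} {N' : J → Type*}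
    [∀ j, AddCommGroup (N' j)] [∀ j, Module A (N' j)] (v : ∀ j, N →ₗ[A] N' j) (hv : LJI v)
    (y : M ⊗[A] N) (hy : ∀ j, (v j).lTensor M y = 0) : y = 0 := by
  classical
  have : IsNoetherianRing B := Algebra.FiniteType.isNoetherianRing A B
  by_contra hne
  let K : Submodule B (M ⊗[A] N) := ⨅ j, LinearMap.ker (AlgebraTensorModule.lTensor B M (v j))
  have hK : ∀ x, x ∈ K ↔ ∀ j, (v j).lTensor M x = 0 := by
    intro x
    simp [K, Submodule.mem_iInf]
  have hyK : y ∈ K := (hK y).mpr hy
  obtain ⟨P, hP, -⟩ := exists_le_isAssociatedPrime_of_isNoetherianRing B (⟨y, hyK⟩ : K)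
    (fun h => hne (congrArg Subtype.val h))
  obtain ⟨hPp, ⟨x, hxK⟩, hx⟩ := isAssociatedPrime_iff.mp hP
  have hx' : ∀ b : B, b ∈ P ↔ b • x = 0 := by
    intro b
    rw [hx, Submodule.mem_colon_singleton, Submodule.mem_bot]
    exact ⟨fun h => congrArg Subtype.val h, fun h => Subtype.ext h⟩
  let p : Ideal A := P.comap (algebraMap A B)
  have hp : p.IsPrime := Ideal.IsPrime.comap _
  have hx'' : ∀ a : A, a ∈ p ↔ a • x = 0 := by
    intro a
    rw [← algebraMap_smul B a x, ← hx']
    rfl
  -- the restriction to `p`-torsion
  obtain ⟨z, hz⟩ := mem_range_of_smul_eq_zero p (IsNoetherian.noetherian p) x fun a ha => (hx'' a).mp ha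
  let R := A ⧸ p
  let T := Submodule.torsionBySet A N p
  let T' := fun j => Submodule.torsionBySet A (N' j) p
  let u : ∀ j, T →ₗ[A] T' j := fun j => (v j).restrict (p := T) (q := T' j) (by
    intro n hn
    rw [Submodule.mem_torsionBySet_iff] at hn ⊢
    intro a
    rw [← map_smul, hn a, map_zero])
  have hu : ∀ j, (T' j).subtype ∘ₗ u j = v j ∘ₗ T.subtype := fun j => rfl
  have hz' : ∀ j, (u j).lTensor M z = 0 := by
    intro j
    apply Module.Flat.lTensor_preserves_injective_linearMap (M := M) (T' j).subtype (T' j).injective_subtype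
    rw [map_zero, ← LinearMap.comp_apply, ← LinearMap.lTensor_comp, hu, LinearMap.lTensor_comp, LinearMap.comp_apply,
      hz]
    exact (hK x).mp hxK j
  -- generic freeness
  let S' := R ⊗[A] B
  let e₀ : S' ⊗[B] M ≃ₗ[R] R ⊗[A] M := Algebra.IsPushout.cancelBaseChange A R B S' M
  obtain ⟨f, hf, hfree⟩ := genFree_of_finiteType (R := R) S' (S' ⊗[B] M)
  obtain ⟨f, rfl⟩ := Ideal.Quotient.mk_surjective f
  have hfp : f ∉ p := fun h => hf (Ideal.Quotient.eq_zero_iff_mem.mpr h)
  have hfree' : FreeAway R (R ⊗[A] M) (Ideal.Quotient.mk p f) := FreeAway.of_equiv e₀ hfree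
  let uR : ∀ j, T →ₗ[R] T' j := fun j =>
    { (u j) with
      map_smul' := by
        intro r n
        obtain ⟨a, rfl⟩ := Ideal.Quotient.mk_surjective r
        rw [Submodule.torsionBySet.mk_smul, RingHom.id_apply, Submodule.torsionBySet.mk_smul]
        exact (u j).map_smul a n }
  have huR : ∀ j, (uR j).restrictScalars A = u j := fun j => rfl
  obtain ⟨k, hk⟩ := exists_pow_smul_eq_zero (Ideal.Quotient.mk p f) hfree' uR (by
    intro n hn
    obtain ⟨k, hk⟩ := hv f (n : N) fun j => by
      obtain ⟨k, hk⟩ := hn j
      refine ⟨k, ?_⟩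
      rw [← map_pow, Submodule.torsionBySet.mk_smul] at hk
      exact congrArg Subtype.val hk
    refine ⟨k, ?_⟩
    rw [← map_pow, Submodule.torsionBySet.mk_smul]
    exact Subtype.ext hk) ((cancel A R M T).symm z) (by
    intro j
    apply (cancel A R M (T' j)).injective
    rw [cancel_lTensor, LinearEquiv.apply_symm_apply, huR, hz' j, map_zero])
  have hk' : f ^ k • z = 0 := by
    apply (cancel A R M T).symm.injective
    rw [map_zero, map_smul, ← hk, ← map_pow, ← algebraMap_smul R (f ^ k)]
    rfl
  have hk'' : f ^ k • x = 0 := by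
    rw [← hz, ← map_smul, hk', map_zero]
  exact hfp (hp.mem_of_pow_mem k ((hx'' _).mpr hk''))

end K121.Sep
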